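import Cfsg.Agent.Lib.L3E.Loc
import Cfsg.Agent.Lib.CGT2.PSr

/-! BOX: Sylow 2-subgroups of the simple group which are excluded or recognised (plans/DIH8.md) -/

set_option autoImplicit false
set_option linter.unusedVariables false

namespace CfsgLib.L3E

open Subgroup CfsgLib.Tech CfsgLib.MOrb Cfsg

variable {G : Type*} [Group G] [Finite G]

theorem sylK {K S : Subgroup G} (hK : K.Normal) (hS : IsSylowIn 2 S ⊤) : IsSylowIn 2 (S ⊓ K) K := by
  have := Fact.mk Nat.prime_two
  have := hS.inf_of_le_normalizer (N := K) (normalizer_eq_top_iff.2 hK).ge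
  rwa [top_inf_eq] at this

theorem sr_of_le {K M S : Subgroup G} (hM : IsSylowIn 2 M K) (hMS : M ≤ S) (h : SectionalPRankLE 2 4 S) :
    SectionalPRankLE 2 4 K := by
  have := Fact.mk Nat.prime_two
  refine Sect.sr_top_iff.2 (Sect.sr_of_sylow hM.toSylow (Sect.SR.of_map K.subtype_injective ?_))
  rw [hM.map_toSylow]
  exact (Sect.sr_iff.1 h).mono hMS

theorem box_card_sup {A : Subgroup G} {x : G} (x2 : x * x = 1) (h : ∀ a ∈ A, Commute a x) :
    Nat.card ↥(A ⊔ zpowers x) ≤ 2 * Nat.card A := by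
  rw [Sect.card_eq_relIndex' (le_sup_left : A ≤ A ⊔ zpowers x), mul_comm]
  refine Nat.mul_le_mul_right _ (Sect.relIndex_le_two fun u hu v hv h1 h2 => ?_)
  have hc : ∀ a ∈ A, ∀ b ∈ zpowers x, a * b = b * a := by
    rintro a ha _ ⟨k, rfl⟩
    exact ((h a ha).zpow_right k).eq
  obtain ⟨a, ha, b, hb, rfl⟩ := (Sect.mem_sup_of_comm hc).1 hu
  obtain ⟨a', ha', b', hb', rfl⟩ := (Sect.mem_sup_of_comm hc).1 hv
  obtain rfl := ((Sect.mem_zpowers_two x2).1 hb).resolve_left fun e => h1 (by rwa [e, mul_one])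
  obtain rfl := ((Sect.mem_zpowers_two x2).1 hb').resolve_left fun e => h2 (by rwa [e, mul_one])
  have e : (a * b')⁻¹ * (a' * b') = b'⁻¹ * (a⁻¹ * a' * b') := by group
  rw [e, (h _ (mul_mem (inv_mem ha) ha')).eq, inv_mul_cancel_left]
  exact mul_mem (inv_mem ha) ha'

omit [Finite G] in
theorem box_two (a b : G) : closure {a, b} = closure {a} ⊔ zpowers b := by
  rw [zpowers_eq_closure, ← Subgroup.closure_union, Set.singleton_union]

omit [Finite G] in
theorem box_three (a b c : G) : closure {a, b, c} = closure {a, b} ⊔ zpowers c := by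
  rw [zpowers_eq_closure, ← Subgroup.closure_union, Set.insert_union, Set.singleton_union]

omit [Finite G] in
theorem box_four (a b c d : G) : closure {a, b, c, d} = closure {a, b, c} ⊔ zpowers d := by
  rw [zpowers_eq_closure, ← Subgroup.closure_union, Set.insert_union, Set.insert_union, Set.singleton_union]

omit [Finite G] in
theorem box_comm {s : Set G} {x : G} (h : ∀ a ∈ s, Commute a x) : ∀ a ∈ closure s, Commute a x :=
  fun _ ha => Sect.mem_cent.1 ((closure_le (centralizer {x})).2 (fun a ha => Sect.mem_cent.2 (h a ha)) ha)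

theorem box_step {n : ℕ} {A : Subgroup G} {x : G} (h : Sect.SR n A) (hx : x ∈ normalizer (A : Set G)) :
    Sect.SR (n * 2) (A ⊔ zpowers x) := by
  have hn : A ⊔ zpowers x ≤ normalizer (A : Set G) := sup_le le_normalizer (zpowers_le.2 hx)
  have := normal_subgroupOf_of_le_normalizer hn
  have h1 : Sect.SR (n * 2) (⊤ : Subgroup ↥(A ⊔ zpowers x)) := by
    refine Sect.SR.ext (QuotientGroup.mk' (A.subgroupOf (A ⊔ zpowers x))) ?_
      ((Sect.sr_zpowers (QuotientGroup.mk' _ ⟨x, mem_sup_right (mem_zpowers x)⟩)).mono ?_)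
    · rw [top_inf_eq, QuotientGroup.ker_mk']
      refine Sect.SR.of_map (subtype_injective _) ?_
      rwa [map_subgroupOf_eq_of_le le_sup_left]
    · rintro _ ⟨⟨y, hy⟩, -, rfl⟩
      obtain ⟨_, ⟨k, rfl⟩, a, ha, rfl⟩ := (Sect.mem_sup_of_norm fun u hu a ha =>
        conj_mem_of_mem_normalizer (zpowers_le.2 hx hu) ha).1 (sup_comm A _ ▸ hy)
      refine mem_zpowers_iff.2 ⟨k, ?_⟩
      rw [← map_zpow]
      refine QuotientGroup.eq.2 (mem_subgroupOf.2 ?_)
      simpa using ha
  have h2 := h1.map (Subgroup.subtype _)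
  rwa [← MonoidHom.range_eq_map, range_subtype] at h2

/-- a self-centralising elementary abelian subgroup of order at most 8 (S1232, `CGT2.self`) -/
theorem sr_e8 {S : Subgroup G} (hS : IsPGroup 2 S) {a b c : G} (ha : a ∈ S) (hb : b ∈ S) (hc : c ∈ S)
    (a2 : a * a = 1) (b2 : b * b = 1) (c2 : c * c = 1) (ab : Commute a b) (ac : Commute a c) (bc : Commute b c)
    (h : ∀ x ∈ S, Commute x a → Commute x b → Commute x c → x ∈ closure {a, b, c}) :
    SectionalPRankLE 2 4 S := by
  have hle : closure {a, b, c} ≤ S := by simp [closure_le, Set.insert_subset_iff, ha, hb, hc]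
  have cm : ∀ x ∈ ({a, b, c} : Set G), ∀ y ∈ ({a, b, c} : Set G), Commute x y := by
    rintro x (rfl | rfl | rfl) y (rfl | rfl | rfl)
    exacts [.refl _, ab, ac, ab.symm, .refl _, bc, ac.symm, bc.symm, .refl _]
  have el : ∀ x ∈ closure {a, b, c}, x * x = 1 := fun x hx => by
    induction hx using closure_induction with
    | mem x hx => rcases hx with rfl | rfl | rfl <;> assumption
    | one => exact one_mul 1
    | mul x y hx hy h1 h2 =>
      have : Commute x y := box_comm (fun u hu => (box_comm (fun v hv => cm v hv u hu) y hy).symm) x hx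
      rw [mul_assoc, ← mul_assoc y, ← this.eq, mul_assoc, h2, mul_one, h1]
    | inv x _ h1 => rw [← mul_inv_rev, h1, inv_one]
  refine Sect.sr_top_iff.2 (CGT2.SrP.self (A := (closure {a, b, c}).subgroupOf S) hS
    (fun x hx => Subtype.ext (el x hx)) ?_ fun x hx => ?_)
  · have h1 := Sect.card_le_two (K := closure {a}) (z := a) fun x hx =>
      (Sect.mem_zpowers_two a2).1 (zpowers_eq_closure a ▸ hx)
    have h2 := box_card_sup (A := closure {a}) b2 (box_comm (by rintro _ rfl; exact ab))
    have h3 := box_card_sup (A := closure {a, b}) c2 (box_comm (by rintro _ (rfl | rfl); exacts [ac, bc]))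
    rw [← box_two] at h2
    rw [← box_three] at h3
    rw [CGT2.SrP.card_sub hle]
    omega
  · have key : ∀ y (hy : y ∈ ({a, b, c} : Set G)), Commute (x : G) y := fun y hy =>
      (congrArg Subtype.val (Sect.mem_cent'.1 hx ⟨y, hle (subset_closure hy)⟩ (subset_closure hy))).symm
    exact h x x.2 (key a (by simp)) (key b (by simp)) (key c (by simp))

/-- a chain with four cyclic steps -/
theorem sr_cyc4 {S : Subgroup G} {a b c d : G}
    (hb : b ∈ normalizer (closure {a} : Set G)) (hc : c ∈ normalizer (closure {a, b} : Set G))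
    (hd : d ∈ normalizer (closure {a, b, c} : Set G)) (h : S ≤ closure {a, b, c, d}) :
    SectionalPRankLE 2 4 S := by
  have h1 := Sect.sr_zpowers a
  rw [zpowers_eq_closure] at h1
  have h2 := box_step h1 hb
  rw [← box_two] at h2
  have h3 := box_step h2 hc
  rw [← box_three] at h3
  have h4 := box_step h3 hd
  rw [← box_four] at h4
  exact Sect.sr_iff.2 (h4.mono h)

/-- an involution with a centraliser of order at most 4 (maximal class) -/
theorem sr_small {S : Subgroup G} (hS : IsPGroup 2 S) {t : G} (ht : t ∈ S) (t2 : t * t = 1)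
    (h : Nat.card ↥(S ⊓ centralizer {t}) ≤ 4) : SectionalPRankLE 2 4 S := by
  refine Sect.sr_top_iff.2 ((Sect.mcp_of_cent hS (a := ⟨t, ht⟩) (le_trans ?_ h)).1.le (by norm_num))
  rw [← card_map_of_injective S.subtype_injective]
  refine card_le_of_le ?_
  rintro _ ⟨x, hx, rfl⟩
  exact ⟨x.2, Sect.mem_cent.2 (congrArg Subtype.val (Sect.mem_cent.1 hx))⟩

variable {md : ℕ} (F : Fr G md)

theorem Fr.sylK {S : Subgroup G} (hS : IsSylowIn 2 S ⊤) : IsSylowIn 2 (S ⊓ F.K) F.K := L3E.sylK F.nK hS

/-- a self-centralising `E₈` in a Sylow 2-subgroup `M` of `K` -/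
theorem Fr.e8 {M : Subgroup G} (hM : IsSylowIn 2 M F.K) {a b c : G} (ha : a ∈ M) (hb : b ∈ M) (hc : c ∈ M)
    (a2 : a * a = 1) (b2 : b * b = 1) (c2 : c * c = 1) (ab : Commute a b) (ac : Commute a c) (bc : Commute b c)
    (h : ∀ x ∈ M, Commute x a → Commute x b → Commute x c → x ∈ closure {a, b, c}) : False :=
  F.rk (sr_of_le hM le_rfl (sr_e8 hM.pgroup ha hb hc a2 b2 c2 ab ac bc h))

end CfsgLib.L3E
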