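import Cfsg.Agent.Lib.L3E.Bas
import Cfsg.Agent.Lib.TL2.Basic
import Cfsg.Agent.Lib.Fgs.ClassSize
import Cfsg.Agent.Lib.PGroup.Basic
import Cfsg.Agent.Auto.CfsgLib_L3E_xg_eq_3

/-! LOC: local facts in a frame (plans/DIH8.md) -/

set_option autoImplicit false
set_option linter.unusedSectionVars false
set_option synthInstance.maxSize 100000
set_option synthInstance.maxHeartbeats 200000

namespace CfsgLib.L3E

open Subgroup CfsgLib.Tech CfsgLib.MOrb Cfsg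

variable {G : Type*} [Group G] [Finite G] {md : ℕ} (F : Fr G md)

/-- only the modes `0, 1, 2` matter -/
theorem md_red (md : ℕ) : ∃ m < 3, lvT md = lvT m ∧ kcl md = kcl m :=
  match md with
  | 0 => ⟨0, by norm_num, rfl, rfl⟩
  | 1 => ⟨1, by norm_num, rfl, rfl⟩
  | _ + 2 => ⟨2, by norm_num, rfl, rfl⟩

theorem exists_ext_in {P N : Subgroup G} (hP : IsPGroup 2 P) (hN : P ≤ N) (h : ¬ IsSylowIn 2 P N) :
    ∃ f ∈ N, f ∈ normalizer (P : Set G) ∧ f ∉ P ∧ f * f ∈ P := by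
  obtain ⟨R, hR, lt, h1, h2⟩ := exists_lt_pgroup_normalizer hP hN h
  obtain ⟨x, hx, xP⟩ := SetLike.exists_of_lt lt
  obtain ⟨k, hk⟩ := isPGroup_iff_mem.1 hR x hx
  obtain ⟨i, h3, h4⟩ := PGroup.exists_pow_not_mem_pow_mem (N := P) (hk ▸ one_mem _) xP
  exact ⟨_, h1 (pow_mem hx _), h2 (pow_mem hx _), h3, pow_two (x ^ 2 ^ i) ▸ h4⟩

/-- the codes of `A` and `B` -/
def xb (h a : ℕ) : Prop := a < 32 ∧ if h = 1 then a < 16 else lk taT a < 32

instance (h a : ℕ) : Decidable (xb h a) := by unfold xb; infer_instance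

namespace Fr

theorem ge : 32 ≤ sz (lvT md) := (wf_lvT md).ge

theorem lt {a : ℕ} (ha : a < 32) : a < sz (lvT md) := ha.trans_le ge

theorem m32 {a b : ℕ} (ha : a < 32) (hb : b < 32) : F.j a * F.j b = F.j (m5 a b) := by
  rw [← F.rep.map a (lt ha) b (lt hb), F.rep.wf.mul32 ha hb]

/-- commuting codes -/
theorem comm_iff {a b : ℕ} (ha : a < sz (lvT md)) (hb : b < sz (lvT md)) :
    Commute (F.j a) (F.j b) ↔ mul (lvT md) a b = mul (lvT md) b a := by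
  rw [commute_iff_eq, ← F.rep.map a ha b hb, ← F.rep.map b hb a ha]
  exact ⟨F.rep.inj _ (F.rep.wf.lt ha hb) _ (F.rep.wf.lt hb ha), congrArg _⟩

theorem conj_of {x a b : ℕ} (hx : x < sz (lvT md)) (ha : a < sz (lvT md)) (hb : b < sz (lvT md))
    (h : mul (lvT md) x a = mul (lvT md) b x) : F.j x * F.j a * (F.j x)⁻¹ = F.j b := by
  rw [mul_inv_eq_iff_eq_mul, ← F.rep.map x hx a ha, h, F.rep.map b hb x hx]

theorem card_of {H : Subgroup G} {p : ℕ → Prop} [DecidablePred p] (h : ∀ g, g ∈ H ↔ ∃ a, (a < 32 ∧ p a) ∧ F.j a = g) :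
    Nat.card H = ((Finset.range 32).filter p).card := by
  have : (H : Set G) = F.j '' ((Finset.range 32).filter p) := Set.ext fun g => by simp [h]
  change (H : Set G).ncard = _
  rw [this, Set.InjOn.ncard_image fun x hx y hy => F.rep.inj x (lt (by simp at hx; exact hx.1)) y
    (lt (by simp at hy; exact hy.1)), Set.ncard_coe_finset]

theorem mem_X1 {g : G} : g ∈ F.X 1 ↔ ∃ a < 16, F.j a = g := F.rep.mem_gp_pow (i := 4) (le_trans (by norm_num) ge)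
theorem mem_X2 {g : G} : g ∈ F.X 2 ↔ ∃ a < 32, lk taT a < 32 ∧ F.j a = g := by
  refine ⟨fun hg => ?_, fun ⟨a, ha, h, e⟩ => ?_⟩
  · obtain ⟨a, -, h, e⟩ := F.rep.mem_of_closed (L := [1, 2, 4, 16]) (p := fun a => a < 32 ∧ lk taT a < 32)
      (fun x hx => lt (by revert x; decide)) (by decide +kernel) (fun x _ h y hy => by
        rw [F.rep.wf.mul32 h.1 (by revert y; decide)]
        exact (by decide +kernel : ∀ x < 32, lk taT x < 32 → ∀ y ∈ [1, 2, 4, 16],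
          m5 x y < 32 ∧ lk taT (m5 x y) < 32) x h.1 h.2 y hy) hg
    exact ⟨a, h.1, h.2, e⟩
  · have h1 : ∀ x < 2 ^ 3, F.j x ∈ F.X 2 := fun x hx =>
      closure_mono (Set.image_mono (by intro y; simp [xg, List.range_succ]; omega))
        (F.rep.mem_gp_of_lt (le_trans (by norm_num) ge) x hx)
    rcases (by decide +kernel : ∀ a < 32, lk taT a < 32 → a < 2 ^ 3 ∨ (a - 16 < 2 ^ 3 ∧ a = a - 16 + 2 ^ 4))
      a ha h with h2 | ⟨h2, h3⟩
    · exact e ▸ h1 a h2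
    · rw [← e, h3, F.rep.add (by omega) (lt (by norm_num))]
      exact mul_mem (h1 _ h2) (subset_closure ⟨16, by simp [xg], rfl⟩)
theorem mem_X3 {g : G} : g ∈ F.X 3 ↔ ∃ a < 32, F.j a = g := F.rep.mem_gp_pow (i := 5) ge

theorem mem_X {h : ℕ} (hh : h = 1 ∨ h = 2) {g : G} : g ∈ F.X h ↔ ∃ a, xb h a ∧ F.j a = g := by
  rcases hh with rfl | rfl
  · exact F.mem_X1.trans (exists_congr fun a => and_congr_left fun _ => ⟨fun h => ⟨by omega, h⟩, fun h => h.2⟩)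
  · exact F.mem_X2.trans (exists_congr fun a => and_assoc.symm)

theorem card_X {h : ℕ} (hh : h = 1 ∨ h = 2) : Nat.card (F.X h) = 16 := by
  rw [F.card_of fun _ => F.mem_X hh]
  rcases hh with rfl | rfl <;> decide +kernel

theorem card_X3 : Nat.card (F.X 3) = 32 := by
  rw [F.card_of (p := fun _ => True) fun _ => by simpa using F.mem_X3]
  rfl

theorem X_le {h : ℕ} (hh : h = 1 ∨ h = 2) : F.X h ≤ F.X 3 := fun _ hg => by
  obtain ⟨a, ha, e⟩ := (F.mem_X hh).1 hg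
  exact F.mem_X3.2 ⟨a, ha.1, e⟩

theorem X3_le : F.X 3 ≤ img (lvT md) F.j := fun _ hg => by
  obtain ⟨a, ha, e⟩ := F.mem_X3.1 hg
  exact F.rep.mem_img.2 ⟨a, lt ha, e⟩

theorem X_comm {h : ℕ} (hh : h = 1 ∨ h = 2) {x y : G} (hx : x ∈ F.X h) (hy : y ∈ F.X h) : Commute x y := by
  obtain ⟨a, ha, rfl⟩ := (F.mem_X hh).1 hx
  obtain ⟨b, hb, rfl⟩ := (F.mem_X hh).1 hy
  rw [commute_iff_eq, F.m32 ha.1 hb.1, F.m32 hb.1 ha.1, (by decide +kernel : ∀ h ∈ [1, 2], ∀ a < 32, xb h a →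
    ∀ b < 32, xb h b → m5 a b = m5 b a) h (by simpa using hh) a ha.1 ha b hb.1 hb]

theorem T_comm {a : ℕ} (ha : a < sz (lvT md)) : Commute (F.j a) (F.j 1) :=
  mem_centralizer_singleton_iff.1 (F.syl.le (F.rep.mem_img.2 ⟨a, ha, rfl⟩))
theorem tt : F.j 1 * F.j 1 = 1 := (F.m32 (by norm_num) (by norm_num)).trans F.rep.one

theorem memK (g : G) : g ∈ F.K ∨ g * F.j 1 ∈ F.K := by
  have := F.nK
  have h1 : g ∈ ((F.K ⊔ zpowers (F.j 1) : Subgroup G) : Set G) := F.gK ▸ mem_top g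
  rw [normal_mul] at h1
  obtain ⟨k, hk, _, ⟨i, rfl⟩, rfl⟩ := h1
  have h2 : F.j 1 ^ (2 : ℤ) = 1 := by rw [zpow_two, F.tt]
  obtain ⟨m, rfl | rfl⟩ := Int.even_or_odd' i
  · exact .inl (by simpa [zpow_mul, h2] using hk)
  · exact .inr (by simpa [zpow_mul, h2, zpow_add, mul_assoc, F.tt] using hk)

theorem card_K : 16 < Nat.card F.K := by
  by_contra h
  refine F.rk fun H N _ A _ _ => ?_
  have h1 := Nat.card_le_card_of_surjective _ (QuotientGroup.mk'_surjective N)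
  have h2 := card_le_card_group H
  have h3 := card_le_card_group A
  omega
theorem no_index_two (M : Subgroup G) (h : M.index = 2) : M = F.K := by
  have := normal_of_index_eq_two h
  have := F.sK
  rcases (inferInstance : (M.subgroupOf F.K).Normal).eq_bot_or_eq_top with e | e
  · have h1 := Nat.le_of_dvd two_pos (h ▸ relIndex_dvd_index_of_normal M F.K)
    rw [relIndex, e, index_bot] at h1
    have := F.card_K
    omega
  have h1 := subgroupOf_eq_top.1 e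
  have h2 : F.j 1 ∉ M := fun a => by
    rw [eq_top_iff.2 (F.gK.ge.trans (sup_le h1 (zpowers_le.2 a))), index_top] at h
    omega
  exact le_antisymm (fun g hg => (F.memK g).resolve_right fun a => h2 ((mul_mem_cancel_left hg).1 (h1 a))) h1
theorem top_of_mem (h : F.j 1 ∈ F.K) : F.K = ⊤ := by rw [← F.gK, sup_eq_left.2 (zpowers_le.2 h)]
theorem index_of_not_mem (h : F.j 1 ∉ F.K) : F.K.index = 2 :=
  index_eq_two_iff.2 ⟨F.j 1, fun g => by
    by_cases a : g ∈ F.K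
    · exact .inr ⟨a, fun b => h ((mul_mem_cancel_left a).1 b)⟩
    · exact .inl ⟨(F.memK g).resolve_left a, a⟩⟩

theorem hom_one'' (u : F.K) (f : F.K →* Multiplicative (ZMod 2)) : f u = 1 := by
  have := F.sK
  rcases (inferInstance : f.ker.Normal).eq_bot_or_eq_top with e | e
  · have h1 := Nat.card_le_card_of_injective _ (f.ker_eq_bot_iff.1 e)
    have := F.card_K
    rw [Nat.card_congr Multiplicative.toAdd, Nat.card_zmod] at h1
    omega
  · exact e.ge (mem_top u)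
theorem hom_one {u : G} (hu : u ∈ F.K) (f : G →* Multiplicative (ZMod 2)) : f u = 1 := F.hom_one'' ⟨u, hu⟩ (f.comp F.K.subtype)
theorem hom_one' (u : F.K) (f : F.K →* Multiplicative (ZMod 2)) : f u = 1 := F.hom_one'' u f

theorem card_C : ∃ m, Odd m ∧ Nat.card (centralizer ({F.j 1} : Set G)) = sz (lvT md) * m :=
  ⟨_, Nat.not_even_iff_odd.1 (fun h => F.syl.not_dvd h.two_dvd),
    by rw [← card_mul_relIndex' F.syl.le, F.rep.card_img]⟩

/-- 2-subgroups of the centraliser of a conjugate of `t` are conjugate into `T` -/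
theorem emb {d : G} (hd : F.D d) {R : Subgroup G} (hR : IsPGroup 2 R) (hc : ∀ r ∈ R, Commute r d) :
    ∃ g : G, g * d * g⁻¹ = F.j 1 ∧ ∀ r ∈ R, ∃ a < sz (lvT md), g * r * g⁻¹ = F.j a := by
  obtain ⟨c, rfl⟩ := isConj_iff.1 hd
  obtain ⟨k, hk, h⟩ := F.syl.exists_cj_le (isPGroup_cj c⁻¹ hR) (cj_le_iff.2 fun r hr => by
    simpa [mem_centralizer_singleton_iff, mul_assoc] using ((hc r hr).map (MulAut.conj c⁻¹)).eq)
  refine ⟨k * c⁻¹, ?_, fun r hr => ?_⟩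
  · calc _ = k * F.j 1 * k⁻¹ := by group
      _ = _ := by rw [mem_centralizer_singleton_iff.1 hk, mul_inv_cancel_right]
  · rw [← cj_mul] at h
    obtain ⟨a, ha, e⟩ := F.rep.mem_img.1 (cj_le_iff.1 h r hr)
    exact ⟨a, ha, e.symm⟩

theorem card_le {d : G} (hd : F.D d) {R : Subgroup G} (hR : IsPGroup 2 R) (hc : ∀ r ∈ R, Commute r d) :
    Nat.card R ≤ sz (lvT md) := by
  obtain ⟨g, -, h⟩ := F.emb hd hR hc
  rw [← card_cj g, ← F.rep.card_img]
  exact card_le_of_le (cj_le_iff.2 fun r hr => let ⟨a, ha, e⟩ := h r hr; F.rep.mem_img.2 ⟨a, ha, e.symm⟩)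

theorem Kp.uniq {d y : G} {k k' : ℕ} (h : F.Kp d y k) (h' : F.Kp d y k') : k = k' := by
  obtain ⟨g, a, ha, e1, e2, rfl⟩ := h
  obtain ⟨g', a', ha', e1', e2', rfl⟩ := h'
  refine F.nof (g' * g⁻¹) (mul_inv_eq_iff_eq_mul.1 ?_) a ha a' ha' ?_
  · rw [← e1]; convert e1'.trans e1.symm using 1; group
  · rw [← e2, ← e2']; group
theorem Kp.conj {d y : G} {k : ℕ} (h : F.Kp d y k) (g : G) : F.Kp (g * d * g⁻¹) (g * y * g⁻¹) k := by
  obtain ⟨c, a, ha, e1, e2, e3⟩ := h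
  exact ⟨c * g⁻¹, a, ha, by rw [← e1]; group, by rw [← e2]; group, e3⟩
theorem Kp.base {a : ℕ} (ha : a < sz (lvT md)) : F.Kp (F.j 1) (F.j a) (kcl md a) := ⟨1, a, ha, by simp, by simp, rfl⟩

/-- a 2-element of `N(A) ∩ C(t)` centralising `U` lies in `A` -/
theorem cenU {h : ℕ} (hh : h = 1 ∨ h = 2) {c : G} (h2 : IsPGroup 2 (zpowers c)) (hn : c ∈ normalizer (F.X h : Set G))
    (h1 : Commute c (F.j 1)) (hz : Commute c (F.j 2)) (he : Commute c (F.j (8 * h))) : c ∈ F.X h := by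
  have mX : ∀ a ∈ [1, 2, 8 * h], F.j a ∈ F.X h := fun a ha =>
    (F.mem_X hh).2 ⟨a, (by decide +kernel : ∀ h ∈ [1, 2], ∀ a ∈ [1, 2, 8 * h], xb h a) h (by simpa using hh) a ha, rfl⟩
  have cR : ∀ a ∈ [1, 2, 8 * h], Commute c (F.j a) → ∀ r ∈ F.X h ⊔ zpowers c, Commute r (F.j a) :=
    fun a ha hc r hr => mem_centralizer_singleton_iff.1 ((sup_le (fun x hx => mem_centralizer_singleton_iff.2
      (F.X_comm hh hx (mX a ha))) (zpowers_le.2 (mem_centralizer_singleton_iff.2 hc)) : _ ≤ centralizer {F.j a}) hr)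
  obtain ⟨g, g1, hg⟩ := F.emb (IsConj.refl _) ((F.rep.isPGroup.to_le ((F.X_le hh).trans F.X3_le)).to_sup_of_normal_left'
    h2 (zpowers_le.2 hn)) (cR 1 (by simp) h1)
  obtain ⟨a, ha, ea⟩ := hg _ (mem_sup_left (mX 2 (by simp)))
  obtain ⟨b, hb, eb⟩ := hg _ (mem_sup_left (mX (8 * h) (by simp)))
  have l8 : 8 * h < sz (lvT md) := lt (by omega)
  have ka := F.nof g (mul_inv_eq_iff_eq_mul.1 g1) 2 (lt (by norm_num)) a ha ea
  have kb := F.nof g (mul_inv_eq_iff_eq_mul.1 g1) _ l8 b hb eb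
  have ab : a ≠ b := fun e => by
    have := F.rep.inj 2 (lt (by norm_num)) _ l8 (mul_left_cancel (mul_right_cancel (ea.trans (e ▸ eb.symm))))
    omega
  have cab := (F.comm_iff ha hb).1 (ea ▸ eb ▸ (F.X_comm hh (mX 2 (by simp)) (mX (8 * h) (by simp))).map (MulAut.conj g))
  have key : ((Finset.range (sz (lvT md))).filter fun y => mul (lvT md) y a = mul (lvT md) a y ∧
      mul (lvT md) y b = mul (lvT md) b y).card ≤ 16 := by
    obtain ⟨m, hm, e1, e2⟩ := md_red md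
    rw [e1] at ha hb cab ⊢
    rw [e2] at ka kb
    exact (by decide +kernel : ∀ m < 3, ∀ h ∈ [1, 2], ∀ a < sz (lvT m), kcl m 2 = kcl m a → ∀ b < sz (lvT m),
      kcl m (8 * h) = kcl m b → a ≠ b → mul (lvT m) a b = mul (lvT m) b a →
      ((Finset.range (sz (lvT m))).filter fun y => mul (lvT m) y a = mul (lvT m) a y ∧
        mul (lvT m) y b = mul (lvT m) b y).card ≤ 16) m hm h (by simpa using hh) a ha ka b hb kb ab cab
  refine (eq_of_le_of_card_ge (le_sup_left (b := zpowers c)) ?_).ge (mem_sup_right (mem_zpowers c))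
  rw [F.card_X hh, ← card_cj g]
  refine le_trans ?_ ((Set.ncard_image_le (f := F.j) (Finset.finite_toSet _)).trans
    ((Set.ncard_coe_finset _).le.trans key))
  refine Set.ncard_le_ncard (s := (cj g (F.X h ⊔ zpowers c) : Set G)) ?_ (Set.toFinite _)
  rintro _ ⟨r, hr, rfl⟩
  obtain ⟨y, hy, e⟩ := hg r hr
  exact ⟨y, Finset.mem_coe.2 (Finset.mem_filter.2 ⟨Finset.mem_range.2 hy,
    (F.comm_iff hy ha).1 (ea ▸ e ▸ (cR 2 (by simp) hz r hr).map (MulAut.conj g)),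
    (F.comm_iff hy hb).1 (eb ▸ e ▸ (cR _ (by simp) he r hr).map (MulAut.conj g))⟩), e.symm⟩

theorem comm_gp {c : G} {L : List ℕ} (h : ∀ a ∈ L, Commute c (F.j a)) {x : G} (hx : x ∈ gp F.j L) : Commute c x :=
  (mem_centralizer_singleton_iff.1 (((closure_le (centralizer {c})).2 (by
    rintro _ ⟨a, ha, rfl⟩
    exact mem_centralizer_singleton_iff.2 (h a ha).symm)) hx) : Commute x c).symm

/-- an element of `N(A) ∩ C(t)` centralising `U` centralises `A` -/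
theorem cenU2 {h : ℕ} (hh : h = 1 ∨ h = 2) {c : G} (hn : c ∈ normalizer (F.X h : Set G))
    (h1 : Commute c (F.j 1)) (hz : Commute c (F.j 2)) (he : Commute c (F.j (8 * h))) :
    ∀ a ∈ F.X h, Commute c a := by
  obtain ⟨_, _, ⟨i, rfl⟩, ⟨k, rfl⟩, e, -, h2, h3⟩ := Fgs.exists_p_part 2 c
  have h4 := F.cenU hh (isPGroup_zpowers_iff.2 h2) (zpow_mem hn i) (h1.zpow_left i) (hz.zpow_left i) (he.zpow_left i)
  have hn' := zpow_mem hn k
  have h1' := h1.zpow_left k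
  have hz' := hz.zpow_left k
  have he' := he.zpow_left k
  dsimp only at e h3
  generalize c ^ k = o at e h3 hn' h1' hz' he'
  have hh' : h ∈ [1, 2] := by simpa using hh
  obtain ⟨b, hb, eb⟩ := (F.mem_X hh).1 (conj_mem_of_mem_normalizer hn'
    ((F.mem_X hh).2 ⟨4, (by decide +kernel : ∀ h ∈ [1, 2], xb h 4) h hh', rfl⟩))
  have kb := F.nof o h1' 4 (lt (by norm_num)) b (lt hb.1) eb.symm
  obtain ⟨y, hy, e1, e2⟩ : ∃ y ∈ [0, 2, 8 * h, m5 2 (8 * h)], b = m5 4 y ∧ m5 b y = 4 ∧ y < 32 := by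
    obtain ⟨m, hm, -, e2⟩ := md_red md
    rw [e2] at kb
    exact (by decide +kernel : ∀ m < 3, ∀ h ∈ [1, 2], ∀ b < 32, xb h b → kcl m 4 = kcl m b →
      ∃ y ∈ [0, 2, 8 * h, m5 2 (8 * h)], b = m5 4 y ∧ m5 b y = 4 ∧ y < 32) m hm h hh' b hb.1 hb kb
  have cy : Commute o (F.j y) := by
    simp only [List.mem_cons, List.not_mem_nil, or_false] at hy
    rcases hy with rfl | rfl | rfl | rfl
    · rw [F.rep.one]; exact Commute.one_right _
    · exact hz'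
    · exact he'
    · rw [← F.m32 (by norm_num) (by omega)]; exact hz'.mul_right he'
  have h5 : Commute (o ^ 2) (F.j 4) := by
    refine mul_inv_eq_iff_eq_mul.1 ?_
    calc _ = o * (o * F.j 4 * o⁻¹) * o⁻¹ := by rw [pow_two]; group
      _ = o * F.j 4 * o⁻¹ * F.j y := by
        nth_rewrite 1 [← eb]
        rw [e1, ← F.m32 (by norm_num) e2.2, ← conj_mul, cy.eq, mul_inv_cancel_right]
      _ = _ := by rw [← eb, F.m32 hb.1 e2.2, e2.1]
  have h6 : Commute o (F.j 4) := by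
    obtain ⟨n, hn⟩ := mem_zpowers_pow_iff.2 ((Nat.Prime.coprime_iff_not_dvd Nat.prime_two).2 h3)
    exact hn ▸ h5.zpow_left n
  intro a ha
  refine e ▸ (F.X_comm hh h4 ha).mul_left (F.comm_gp (fun b hb => ?_) ha)
  rcases hh with rfl | rfl <;> simp only [xg, List.mem_cons, List.not_mem_nil, or_false] at hb <;>
    rcases hb with rfl | rfl | rfl | rfl <;> assumption

theorem j_mem {h : ℕ} (hh : h = 1 ∨ h = 2) {a : ℕ} (ha : a ∈ [1, 2, 8 * h]) : F.j a ∈ F.X h :=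
  (F.mem_X hh).2 ⟨a, (by decide +kernel : ∀ h ∈ [1, 2], ∀ a ∈ [1, 2, 8 * h], xb h a) h (by simpa using hh) a ha, rfl⟩

theorem norm_X {h : ℕ} (hh : h = 1 ∨ h = 2) : F.X 3 ≤ normalizer (F.X h : Set G) := fun _ hx' => by
  obtain ⟨x, hx, rfl⟩ := F.mem_X3.1 hx'
  refine mem_normalizer_of_forall fun _ ha' => ?_
  obtain ⟨a, ha, rfl⟩ := (F.mem_X hh).1 ha'
  obtain ⟨b, -, hb, e⟩ := (by decide +kernel : ∀ h ∈ [1, 2], ∀ x < 32, ∀ a < 32, xb h a →
    ∃ b < 32, xb h b ∧ m5 x a = m5 b x) h (by simpa using hh) x hx a ha.1 ha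
  exact (F.mem_X hh).2 ⟨b, hb, by rw [F.m32 hx ha.1, e, ← F.m32 hb.1 hx, mul_inv_cancel_right]⟩

theorem norm_X3 : img (lvT md) F.j ≤ normalizer (F.X 3 : Set G) := by
  rw [← F.rep.gp_pow, gp, closure_le]
  rintro _ ⟨_, hx, rfl⟩
  obtain ⟨i, hi, rfl⟩ := List.mem_map.1 hx
  have hi' := List.mem_range.1 hi
  refine mem_normalizer_of_forall fun _ ha' => ?_
  obtain ⟨a, ha, rfl⟩ := F.mem_X3.1 ha'
  obtain ⟨b, hb, e⟩ : ∃ b < 32, mul (lvT md) (2 ^ i) a = mul (lvT md) b (2 ^ i) := by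
    obtain ⟨m, hm, e1, -⟩ := md_red md
    rw [e1] at hi' ⊢
    exact (by decide +kernel : ∀ m < 3, ∀ i < (lvT m).length + 5, ∀ a < 32, ∃ b < 32,
      mul (lvT m) (2 ^ i) a = mul (lvT m) b (2 ^ i)) m hm i hi' a ha
  exact F.mem_X3.2 ⟨b, hb, (F.conj_of (F.rep.wf.pow_lt.2 hi') (lt ha) (lt hb) e).symm⟩

/-- `C(t)` maps `T₁` to `T₁` inside `T` -/
theorem lt_of_conj {g : G} (hg : Commute g (F.j 1)) (h : ∀ a < 32, ∃ b < sz (lvT md), g * F.j a * g⁻¹ = F.j b) :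
    g ∈ normalizer (F.X 3 : Set G) := by
  obtain ⟨z, hz, ez⟩ := h 2 (by norm_num)
  obtain ⟨s, hs, es⟩ := h 4 (by norm_num)
  obtain ⟨e, he, ee⟩ := h 8 (by norm_num)
  obtain ⟨b, hb, eb⟩ := h 16 (by norm_num)
  have kz := F.nof g hg 2 (lt (by norm_num)) z hz ez
  have ke := F.nof g hg 8 (lt (by norm_num)) e he ee
  have kb := F.nof g hg 16 (lt (by norm_num)) b hb eb
  have c : ∀ {u v x y : ℕ}, u < 32 → v < 32 → x < sz (lvT md) → y < sz (lvT md) → g * F.j u * g⁻¹ = F.j x →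
      g * F.j v * g⁻¹ = F.j y → (m5 u v = m5 v u ↔ mul (lvT md) x y = mul (lvT md) y x) :=
    fun {u v x y} hu hv hx hy e1 e2 => by
      rw [← F.comm_iff hx hy, ← e1, ← e2, ← F.rep.wf.mul32 hu hv, ← F.rep.wf.mul32 hv hu,
        ← F.comm_iff (lt hu) (lt hv)]
      exact ⟨fun h => h.conj g, fun h => by simpa [mul_assoc] using h.conj g⁻¹⟩
  have c1 := (c (by norm_num) (by norm_num) hs he es ee).1 (by decide)
  have c2 := (c (by norm_num) (by norm_num) hs hb es eb).1 (by decide)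
  have c3 := mt (c (by norm_num) (by norm_num) he hb ee eb).2 (by decide)
  obtain ⟨k1, k2, k3, k4⟩ : z < 32 ∧ e < 32 ∧ b < 32 ∧ s < 32 := by
    obtain ⟨m, hm, e1, e2⟩ := md_red md
    rw [e1] at hz hs he hb c1 c2 c3
    rw [e2] at kz ke kb
    have q := (by decide +kernel : ∀ m < 3, ∀ u ∈ [2, 8, 16], ∀ x < sz (lvT m), kcl m u = kcl m x → x < 32) m hm
    have q1 := q 8 (by simp) e he ke
    have q2 := q 16 (by simp) b hb kb
    exact ⟨q 2 (by simp) z hz kz, q1, q2, (by decide +kernel : ∀ m < 3, ∀ e < 32, kcl m 8 = kcl m e → ∀ b < 32,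
      kcl m 16 = kcl m b → mul (lvT m) e b ≠ mul (lvT m) b e → ∀ s < sz (lvT m),
        mul (lvT m) s e = mul (lvT m) e s → mul (lvT m) s b = mul (lvT m) b s → s < 32) m hm e q1 ke b q2 kb c3 s hs c1 c2⟩
  refine mem_normalizer_of_cj_le ?_
  rw [cj, X, gp, MonoidHom.map_closure, closure_le]
  rintro _ ⟨_, ⟨a, ha, rfl⟩, rfl⟩
  simp only [xg, List.mem_cons, List.not_mem_nil, or_false, Set.mem_ofPred_eq] at ha
  refine F.mem_X3.2 ?_
  rcases ha with rfl | rfl | rfl | rfl | rfl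
  exacts [⟨1, by norm_num, by simp [hg.eq]⟩, ⟨z, k1, ez.symm⟩, ⟨s, k4, es.symm⟩, ⟨e, k2, ee.symm⟩, ⟨b, k3, eb.symm⟩]

theorem conj_of_comm {n u a : G} (h : Commute (u⁻¹ * n) a) : n * a * n⁻¹ = u * a * u⁻¹ := by
  calc _ = u * (u⁻¹ * n * a) * n⁻¹ := by group
    _ = _ := by rw [h.eq]; group

theorem comm_of_conj {n u a : G} (h : n * a * n⁻¹ = u * a * u⁻¹) : Commute (u⁻¹ * n) a := by
  show _ * _ = _ * _
  calc _ = u⁻¹ * (n * a * n⁻¹) * n := by group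
    _ = _ := by rw [h]; group

theorem actX {h : ℕ} (hh : h = 1 ∨ h = 2) {n g : G} (hn : Commute n (F.j 1)) (hA : n ∈ normalizer (F.X h : Set G))
    (hg : ∀ a, xb h a → g * F.j a * g⁻¹ = F.j (lk (if h = 1 then sgT else taT) a)) :
    ∃ x < 32, ∃ i < 3, ∀ a ∈ F.X h, n * a * n⁻¹ = F.j x * g ^ i * a * (F.j x * g ^ i)⁻¹ := by
  have hh' : h ∈ [1, 2] := by simpa using hh
  obtain ⟨s, hs⟩ : ∃ s, s = lk (if h = 1 then sgT else taT) := ⟨_, rfl⟩
  have s1 : ∀ a, xb h a → xb h (s a) := fun a ha => hs ▸ (by decide +kernel : ∀ h ∈ [1, 2], ∀ a < 32, xb h a →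
    xb h (lk (if h = 1 then sgT else taT) a)) h hh' a ha.1 ha
  rw [← hs] at hg
  have hi : ∀ i a, xb h a → xb h (s^[i] a) ∧ g ^ i * F.j a * (g ^ i)⁻¹ = F.j (s^[i] a) := fun i a ha => by
    induction i with
    | zero => exact ⟨ha, by simp⟩
    | succ i ih =>
      rw [Function.iterate_succ_apply', ← hg _ ih.1, ← ih.2]
      exact ⟨s1 _ ih.1, by group⟩
  obtain ⟨a, ha, ea⟩ := (F.mem_X hh).1 (conj_mem_of_mem_normalizer hA (F.j_mem hh (a := 2) (by simp)))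
  obtain ⟨b, hb, eb⟩ := (F.mem_X hh).1 (conj_mem_of_mem_normalizer hA (F.j_mem hh (a := 8 * h) (by simp)))
  have l8 : 8 * h < sz (lvT md) := lt (by omega)
  have ka := F.nof n hn 2 (lt (by norm_num)) a (lt ha.1) ea.symm
  have kb := F.nof n hn _ l8 b (lt hb.1) eb.symm
  have ab : a ≠ b := fun e => by
    have := F.rep.inj 2 (lt (by norm_num)) _ l8 (mul_left_cancel (mul_right_cancel (ea.symm.trans (e ▸ eb))))
    omega
  obtain ⟨x, hx, i, hi3, e0, e1, e2, e3⟩ : ∃ x < 32, ∃ i < 3, (xb h 1 ∧ xb h 2 ∧ xb h (8 * h)) ∧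
      m5 x (s^[i] 1) = m5 1 x ∧ m5 x (s^[i] 2) = m5 a x ∧ m5 x (s^[i] (8 * h)) = m5 b x := by
    obtain ⟨m, hm, -, e2⟩ := md_red md
    rw [e2] at ka kb
    exact hs ▸ (by decide +kernel : ∀ m < 3, ∀ h ∈ [1, 2], ∀ a < 32, xb h a → kcl m 2 = kcl m a → ∀ b < 32, xb h b →
      kcl m (8 * h) = kcl m b → a ≠ b → ∃ x < 32, ∃ i < 3, (xb h 1 ∧ xb h 2 ∧ xb h (8 * h)) ∧
        m5 x ((lk (if h = 1 then sgT else taT))^[i] 1) = m5 1 x ∧
        m5 x ((lk (if h = 1 then sgT else taT))^[i] 2) = m5 a x ∧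
        m5 x ((lk (if h = 1 then sgT else taT))^[i] (8 * h)) = m5 b x) m hm h hh' a ha.1 ha ka b hb.1 hb kb ab
  have key : ∀ u v, xb h u → v < 32 → m5 x (s^[i] u) = m5 v x → n * F.j u * n⁻¹ = F.j v →
      Commute ((F.j x * g ^ i)⁻¹ * n) (F.j u) := fun u v hu hv e e' => comm_of_conj (by
    rw [e', ← mul_inv_cancel_right (F.j v) (F.j x), F.m32 hv hx, ← e, ← F.m32 hx (hi i u hu).1.1, ← (hi i u hu).2]
    group)
  have gN : g ∈ normalizer (F.X h : Set G) := mem_normalizer_of_forall fun _ ha' => by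
    obtain ⟨a, ha, rfl⟩ := (F.mem_X hh).1 ha'
    exact (F.mem_X hh).2 ⟨_, s1 a ha, (hg a ha).symm⟩
  exact ⟨x, hx, i, hi3, fun y hy => conj_of_comm (F.cenU2 hh
    (mul_mem (inv_mem (mul_mem (F.norm_X hh (F.mem_X3.2 ⟨x, hx, rfl⟩)) (pow_mem gN i))) hA)
    (key 1 1 e0.1 (by norm_num) e1 (by rw [hn.eq, mul_inv_cancel_right])) (key 2 a e0.2.1 ha.1 e2 ea.symm)
    (key _ b e0.2.2 hb.1 e3 eb.symm) y hy)⟩

/-- `C_G(A) = A × O`, `C_G(B) = B × O` -/
theorem cenX {h : ℕ} (hh : h = 1 ∨ h = 2) {c : G} (hc : ∀ a ∈ F.X h, Commute c a) :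
    ∃ x ∈ F.X h, ∃ o ∈ zpowers c, Odd (orderOf o) ∧ c = x * o := by
  obtain ⟨x, o, ⟨i, rfl⟩, ho, e, -, h2, h3⟩ := Fgs.exists_p_part 2 c
  refine ⟨_, F.cenU hh (isPGroup_zpowers_iff.2 h2) (mem_normalizer_of_forall fun a ha => ?_)
    ((hc _ (F.j_mem hh (by simp))).zpow_left i) ((hc _ (F.j_mem hh (by simp))).zpow_left i)
    ((hc _ (F.j_mem hh (by simp))).zpow_left i), o, ho, Nat.not_even_iff_odd.1 fun h => h3 h.two_dvd, e.symm⟩
  rwa [((hc a ha).zpow_left i).eq, mul_inv_cancel_right]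

/-- `Aut_{C(t)}(A) = ⟨σ, b⟩` -/
theorem actA {n g : G} (hn : Commute n (F.j 1)) (hA : n ∈ normalizer (F.X 1 : Set G))
    (hg : ∀ a < 16, g * F.j a * g⁻¹ = F.j (lk sgT a)) :
    ∃ x < 32, ∃ i < 3, ∀ a ∈ F.X 1, n * a * n⁻¹ = F.j x * g ^ i * a * (F.j x * g ^ i)⁻¹ :=
  F.actX (.inl rfl) hn hA fun a ha => hg a ha.2

theorem actB {n g : G} (hn : Commute n (F.j 1)) (hB : n ∈ normalizer (F.X 2 : Set G))
    (hg : ∀ a < 32, lk taT a < 32 → g * F.j a * g⁻¹ = F.j (lk taT a)) :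
    ∃ x < 32, ∃ i < 3, ∀ a ∈ F.X 2, n * a * n⁻¹ = F.j x * g ^ i * a * (F.j x * g ^ i)⁻¹ :=
  F.actX (.inr rfl) hn hB fun a ha => hg a ha.1 ha.2

/-- `Aut_{C(t)}(T₁) = Aut_T(T₁)` -/
theorem actT {n : G} (hn : Commute n (F.j 1)) (hT : n ∈ normalizer (F.X 3 : Set G)) :
    ∃ x < sz (lvT md), ∀ a ∈ F.X 3, n * a * n⁻¹ = F.j x * a * (F.j x)⁻¹ := by
  have im : ∀ u < 32, ∃ v < 32, n * F.j u * n⁻¹ = F.j v ∧ kcl md u = kcl md v := fun u hu => by
    obtain ⟨v, hv, e⟩ := F.mem_X3.1 (conj_mem_of_mem_normalizer hT (F.mem_X3.2 ⟨u, hu, rfl⟩))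
    exact ⟨v, hv, e.symm, F.nof n hn u (lt hu) v (lt hv) e.symm⟩
  choose! v v1 v2 v3 using im
  have vm : ∀ a < 32, ∀ b < 32, v (m5 a b) = m5 (v a) (v b) := fun a ha b hb => by
    have l := (by decide +kernel : ∀ x < 32, ∀ y < 32, m5 x y < 32)
    refine F.rep.inj _ (lt (v1 _ (l a ha b hb))) _ (lt (l _ (v1 a ha) _ (v1 b hb))) ?_
    rw [← v2 _ (l a ha b hb), ← F.m32 ha hb, ← conj_mul, v2 a ha, v2 b hb, F.m32 (v1 a ha) (v1 b hb)]
  obtain ⟨x, hx, e1, e2, e3⟩ : ∃ x < sz (lvT md), mul (lvT md) x 2 = mul (lvT md) (v 2) x ∧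
      mul (lvT md) x 8 = mul (lvT md) (v 8) x ∧ mul (lvT md) x 16 = mul (lvT md) (v 16) x := by
    obtain ⟨m, hm, e1, e2⟩ := md_red md
    have h1 : v 2 = m5 (m5 (v 8) (v 16)) (m5 (v 8) (v 16)) := by
      rw [← vm 8 (by norm_num) 16 (by norm_num), ← vm _ (by decide) _ (by decide)]; rfl
    have h2 := v3 2 (by norm_num)
    have h3 := v3 (m5 4 8) (by decide)
    have h4 := v3 (m5 4 16) (by decide)
    rw [vm _ (by norm_num) _ (by norm_num)] at h3 h4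
    rw [e2] at v3 h2 h3 h4
    rw [e1]
    rw [h1] at h2 ⊢
    exact (by decide +kernel : ∀ m < 3, ∀ a < 32, kcl m 8 = kcl m a → ∀ b < 32, kcl m 16 = kcl m b →
      kcl m 2 = kcl m (m5 (m5 a b) (m5 a b)) → ∀ d < 32, kcl m 4 = kcl m d → kcl m (m5 4 8) = kcl m (m5 d a) →
      kcl m (m5 4 16) = kcl m (m5 d b) → ∃ x < sz (lvT m), mul (lvT m) x 2 = mul (lvT m) (m5 (m5 a b) (m5 a b)) x ∧
        mul (lvT m) x 8 = mul (lvT m) a x ∧ mul (lvT m) x 16 = mul (lvT m) b x) m hm _ (v1 8 (by norm_num))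
      (v3 8 (by norm_num)) _ (v1 16 (by norm_num)) (v3 16 (by norm_num)) h2 _ (v1 4 (by norm_num))
      (v3 4 (by norm_num)) h3 h4
  have key : ∀ u < 32, mul (lvT md) x u = mul (lvT md) (v u) x → Commute ((F.j x)⁻¹ * n) (F.j u) := fun u hu e =>
    comm_of_conj ((v2 u hu).trans (F.conj_of hx (lt hu) (lt (v1 u hu)) e).symm)
  have c1 : Commute ((F.j x)⁻¹ * n) (F.j 1) := (F.T_comm hx).inv_left.mul_left hn
  have c2 := key 2 (by norm_num) e1
  have c3 : ∀ h, h = 1 ∨ h = 2 → Commute ((F.j x)⁻¹ * n) (F.j (8 * h)) := by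
    rintro _ (rfl | rfl)
    exacts [key 8 (by norm_num) e2, key 16 (by norm_num) e3]
  have nT := mul_mem (inv_mem (F.norm_X3 (F.rep.mem_img.2 ⟨x, hx, rfl⟩))) hT
  have c4 : ∀ h, h = 1 ∨ h = 2 → ∀ a ∈ F.X h, Commute ((F.j x)⁻¹ * n) a := fun h hh =>
    F.cenU2 hh (mem_normalizer_of_forall fun a ha => by
      obtain ⟨b, hb, e⟩ := F.mem_X3.1 (conj_mem_of_mem_normalizer nT (F.X_le hh ha))
      have h1 := (F.X_comm hh ha (F.j_mem hh (a := 8 * h) (by simp))).map (MulAut.conj ((F.j x)⁻¹ * n))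
      rw [MulAut.conj_apply, MulAut.conj_apply, (c3 h hh).eq, mul_inv_cancel_right, ← e,
        F.comm_iff (lt hb) (lt (by omega)), F.rep.wf.mul32 hb (by omega), F.rep.wf.mul32 (by omega) hb] at h1
      exact (F.mem_X hh).2 ⟨b, (by decide +kernel : ∀ h ∈ [1, 2], ∀ b < 32, m5 b (8 * h) = m5 (8 * h) b → xb h b)
        h (by simpa using hh) b hb h1, e⟩) c1 c2 (c3 h hh)
  refine ⟨x, hx, fun a ha => conj_of_comm (F.comm_gp (fun b hb => ?_) ha)⟩
  simp only [xg, List.mem_cons, List.not_mem_nil, or_false] at hb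
  rcases hb with rfl | rfl | rfl | rfl | rfl
  exacts [c1, c2, c4 1 (.inl rfl) _ (F.mem_X1.2 ⟨4, by norm_num, rfl⟩), c3 1 (.inl rfl), c3 2 (.inr rfl)]

/-- an element of `C(t)` extending `T₁` to a 2-group is `a ρ` up to `C(T₁)` -/
theorem rho {r : G} (hr : Commute r (F.j 1)) (hn : r ∉ F.X 3) (h2 : IsPGroup 2 ↥(F.X 3 ⊔ zpowers r)) :
    md ≠ 0 ∧ ∃ c : G, (∀ a < 32, c * F.j a * c⁻¹ = F.j a) ∧ ∃ a < 32, c * r * c⁻¹ = F.j a * F.j 32 := by
  obtain ⟨g, g1, hg⟩ := F.emb (IsConj.refl _) h2 fun y hy => mem_centralizer_singleton_iff.1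
    ((sup_le (F.X3_le.trans F.syl.le) (zpowers_le.2 (mem_centralizer_singleton_iff.2 hr)) : _ ≤ centralizer _) hy)
  have g2 : Commute g (F.j 1) := mul_inv_eq_iff_eq_mul.1 g1
  obtain ⟨x, hx, h⟩ := F.actT g2 (F.lt_of_conj g2 fun a ha => hg _ (mem_sup_left (F.mem_X3.2 ⟨a, ha, rfl⟩)))
  have h1 : ∀ a < 32, (F.j x)⁻¹ * g * F.j a * ((F.j x)⁻¹ * g)⁻¹ = F.j a := fun a ha => by
    rw [(comm_of_conj (h _ (F.mem_X3.2 ⟨a, ha, rfl⟩))).eq, mul_inv_cancel_right]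
  obtain ⟨b, hb, e⟩ := hg r (mem_sup_right (mem_zpowers r))
  have hx' := F.rep.mem_img.2 ⟨x, hx, rfl⟩
  obtain ⟨y, hy, e'⟩ := F.rep.mem_img.1 (mul_mem (mul_mem (inv_mem hx') (F.rep.mem_img.2 ⟨b, hb, rfl⟩)) hx')
  have e'' : (F.j x)⁻¹ * g * r * ((F.j x)⁻¹ * g)⁻¹ = F.j y := by rw [e', ← e]; group
  have y1 : 32 ≤ y := not_lt.1 fun a => hn (F.mem_X3.2 ⟨y, a, by simpa using (h1 y a).trans e''.symm⟩)
  have y2 : sz (lvT md) ≤ 64 := by
    obtain ⟨m, hm, e1, -⟩ := md_red md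
    exact e1 ▸ (by decide +kernel : ∀ m < 3, sz (lvT m) ≤ 64) m hm
  refine ⟨?_, _, h1, y - 32, by omega, ?_⟩
  · rintro rfl
    exact y1.not_gt hy
  · rw [e'', ← Nat.sub_add_cancel y1, Nat.add_sub_cancel]
    exact F.rep.add (i := 5) (by omega) (by omega)

/-- small 2-subgroups of `N(A)`, `N(B)`, `N(T₁)` are not Sylow there -/
theorem notSyl {h ob e : ℕ} (hh : h = 1 ∨ h = 2 ∨ h = 3) (ho : F.Orb h ob)
    (he : ((List.range 32).filter ob.testBit).length = 2 ^ e) {P : Subgroup G} (hP : IsPGroup 2 P)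
    (hN : P ≤ normalizer (F.X h : Set G)) (hc : Nat.card P < (if h = 3 then sz (lvT md) else 32) * 2 ^ e) :
    ∃ f ∈ normalizer (F.X h : Set G), f ∈ normalizer (P : Set G) ∧ f ∉ P ∧ f * f ∈ P := by
  refine exists_ext_in hP hN fun hS => hc.not_ge ?_
  have h1 := TL2.card_conj (normalizer (F.X h : Set G)) (F.j 1)
  have h2 : {w | ∃ z ∈ normalizer (F.X h : Set G), z * F.j 1 * z⁻¹ = w} =
      F.j '' ((List.range 32).filter ob.testBit).toFinset := by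
    refine Set.ext fun w => ⟨fun ⟨z, hz, e⟩ => ?_, fun ⟨a, ha, e⟩ => ?_⟩
    · have h3 : F.j 1 ∈ F.X h := subset_closure ⟨1, by rcases hh with rfl | rfl | rfl <;> simp [xg], rfl⟩
      have h4 : F.X h ≤ F.X 3 := (or_assoc.2 hh).elim F.X_le fun e => e ▸ le_rfl
      obtain ⟨a, ha, e'⟩ := F.mem_X3.1 (h4 (conj_mem_of_mem_normalizer hz h3))
      exact ⟨a, by simpa using ⟨ha, (ho a).1 ⟨ha, z, hz, e'.symm⟩⟩, e'.trans e⟩
    · exact e ▸ ((ho a).2 (by simp at ha; exact ha.2)).2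
  rw [h2, Set.InjOn.ncard_image fun x hx y hy => F.rep.inj x (lt (by simp at hx; exact hx.1)) y
    (lt (by simp at hy; exact hy.1)), Set.ncard_coe_finset,
    List.toFinset_card_of_nodup (List.nodup_range.filter _), he] at h1
  obtain ⟨k, hk, h3⟩ : ∃ k, (if h = 3 then sz (lvT md) else 32) = 2 ^ k ∧
      2 ^ k ∣ Nat.card ↥(normalizer (F.X h : Set G) ⊓ centralizer {F.j 1}) := by
    rcases or_assoc.2 hh with hh | rfl
    · exact ⟨5, if_neg (by omega), F.card_X3.symm.dvd.trans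
        (card_dvd_of_le (le_inf (F.norm_X hh) (F.X3_le.trans F.syl.le)))⟩
    · exact ⟨_, F.rep.wf.pw, (F.rep.card_img.trans F.rep.wf.pw).symm.dvd.trans
        (card_dvd_of_le (le_inf F.norm_X3 F.syl.le))⟩
  rw [hk, mul_comm, ← pow_add]
  refine Nat.le_of_dvd Nat.card_pos ((Nat.Coprime.pow_left _
    ((Nat.Prime.coprime_iff_not_dvd Nat.prime_two).2 hS.not_dvd)).dvd_of_dvd_mul_right ?_)
  rw [card_mul_relIndex' hN, ← h1, pow_add]
  exact Nat.mul_dvd_mul_left _ h3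

end Fr

theorem exists_ext {P : Subgroup G} (hP : IsPGroup 2 P) (h : ¬ IsSylowIn 2 P ⊤) :
    ∃ f ∈ normalizer (P : Set G), f ∉ P ∧ f * f ∈ P :=
  let ⟨f, _, h⟩ := exists_ext_in hP le_top h; ⟨f, h⟩

end CfsgLib.L3E
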