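import Cfsg.Agent.Lib.L3E.Eng
import Cfsg.Agent.Lib.L3E.Loc

/-! E1: loops, products, tables (plans/DIH8.md, part II) -/

set_option autoImplicit false
set_option linter.unusedSectionVars false
set_option linter.unusedVariables false

namespace CfsgLib.L3E

open Subgroup CfsgLib.Tech CfsgLib.MOrb Cfsg

universe u

variable {G : Type u} [Group G] [Finite G] {md : ℕ} {F : Fr G md} {c : Cfg} {s s' : St} {φ ψ : ℕ → G} {a : Aux} {l l' : Lv}

theorem an_iff {p q : Bool} : an p q = true ↔ p = true ∧ q = true := by cases p <;> cases q <;> simp [an]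

theorem orr_iff {p q : Bool} : orr p q = true ↔ p = true ∨ q = true := by cases p <;> cases q <;> simp [orr]

theorem ne_iff {x y : ℕ} : ne x y = true ↔ x ≠ y := by
  rw [Ne, ← Nat.beq_eq, ne]
  cases Nat.beq x y <;> simp

theorem lt_iff {x y : ℕ} : lt x y = true ↔ x < y := Nat.ble_eq.to_iff

theorem tb_eq (m i : ℕ) : tb m i = m.testBit i := by
  rw [Bool.eq_iff_iff, tb, Nat.beq_eq, Nat.testBit_eq_decide_div_mod_eq, decide_eq_true_eq, ← Nat.shiftRight_eq_div_pow,
    ← Nat.and_one_is_mod]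
  rfl

theorem cnd_eq {α : Type} (b : Bool) (x y : α) : cnd b x y = if b then x else y := by cases b <;> rfl

theorem allN_iff {n : ℕ} {p : ℕ → Bool} : allN n p = true ↔ ∀ i < n, p i = true := by
  induction n with
  | zero => simp [allN]
  | succ n ih => exact (an_iff (p := p n) (q := allN n p)).trans (by rw [ih, Nat.forall_lt_succ_right, and_comm])

theorem anyN_iff {n : ℕ} {p : ℕ → Bool} : anyN n p = true ↔ ∃ i < n, p i = true := by
  induction n with
  | zero => simp [anyN]
  | succ n ih => exact (orr_iff (p := p n) (q := anyN n p)).trans (by rw [ih, Nat.exists_lt_succ_right, or_comm])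

theorem allL_iff {α : Type} {L : List α} {p : α → Bool} : allL L p = true ↔ ∀ x ∈ L, p x = true := by
  induction L with
  | nil => simp [allL]
  | cons x L ih => exact (an_iff (p := p x) (q := allL L p)).trans (by rw [ih, List.forall_mem_cons])

theorem anyL_iff {α : Type} {L : List α} {p : α → Bool} : anyL L p = true ↔ ∃ x ∈ L, p x = true := by
  induction L with
  | nil => simp [anyL]
  | cons x L ih => exact (orr_iff (p := p x) (q := anyL L p)).trans (by rw [ih, List.exists_mem_cons_iff])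

theorem all2_iff {L M : List ℕ} {p : ℕ → ℕ → Bool} : all2 L p M = true ↔ List.Forall₂ (fun x y => p x y = true) L M := by
  induction L generalizing M with
  | nil => cases M <;> simp [all2]
  | cons x L ih =>
    cases M with
    | nil => simp [all2]
    | cons y M => exact (an_iff (p := p x y) (q := all2 L p M)).trans (by rw [ih, List.forall₂_cons])

theorem all2_beq {L M : List ℕ} : all2 L Nat.beq M = true ↔ L = M := by
  simp only [all2_iff, Nat.beq_eq, List.forall₂_eq_eq_eq]

theorem nth_eq {α : Type} (d : α) (L : List α) (i : ℕ) : nth d L i = L.getD i d := by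
  induction L generalizing i with
  | nil => rfl
  | cons x L ih =>
    cases i with
    | zero => rfl
    | succ i => exact ih i

theorem snoc_eq (L : List ℕ) (y : ℕ) : snoc L y = L ++ [y] := by
  induction L with
  | nil => rfl
  | cons x L ih => exact congrArg (x :: ·) ih

theorem len_eq {α : Type} (L : List α) : len L = L.length := by
  induction L with
  | nil => rfl
  | cons x L ih => exact congrArg Nat.succ ih

theorem memL_iff {x : ℕ} {L : List ℕ} : memL x L = true ↔ x ∈ L := by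
  simp only [memL, anyL_iff, Nat.beq_eq, exists_eq_right']

theorem mapK_eq {α : Type} (f : ℕ → ℕ) (L : List ℕ) (k : List ℕ → α) : mapK f L k = k (L.map f) := by
  induction L generalizing k with
  | nil => rfl
  | cons x L ih => exact (frc_eq (f x) fun y => mapK f L fun t => k (y :: t)).trans (ih _)

theorem subMp_iff {L M : List (List ℕ × List ℕ)} : subMp L M = true ↔ L ⊆ M := by
  simp only [subMp, allL_iff, anyL_iff, an_iff, all2_beq, ← Prod.ext_iff, exists_eq_right']
  rfl

theorem eqLv_iff : eqLv l l' = true ↔ l = l' := by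
  induction l generalizing l' with
  | nil => cases l' <;> simp [eqLv]
  | cons x L ih =>
    cases l' with
    | nil => simp [eqLv]
    | cons y M =>
      change an _ (an _ (an _ (eqLv L M))) = true ↔ _
      simp only [an_iff, ih, Nat.beq_eq, List.cons.injEq, Prod.ext_iff, and_assoc]

/-- one step of the parity computation -/
def parF (k y : ℕ) : ℕ := y ^^^ y >>> k

theorem parF_xor (k x y : ℕ) : parF k (x ^^^ y) = parF k x ^^^ parF k y := by
  simp only [parF, Nat.shiftRight_xor_distrib]; ac_rfl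

theorem par_eq (m x : ℕ) : par m x = parF 1 (parF 2 (parF 4 (parF 8 (x &&& m)))) % 2 := by
  simp only [par, frc_eq, ← Nat.and_one_is_mod]; rfl

theorem par_lt (m x : ℕ) : par m x < 2 := by
  rw [par_eq]; exact Nat.mod_lt _ two_pos

theorem par_xor (m x y : ℕ) : par m (Nat.xor x y) = (par m x + par m y) % 2 := by
  change par m (x ^^^ y) = _
  simp only [par_eq, Nat.and_xor_distrib_right, parF_xor, Nat.xor_mod_two_eq]
  omega

theorem par_zero (m : ℕ) : par m 0 = 0 := by
  rw [par_eq, Nat.zero_and]; rfl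

theorem par_zero' (x : ℕ) : par 0 x = 0 := by
  rw [par_eq, Nat.and_zero]; rfl

theorem par_pow (m : ℕ) {i : ℕ} (hi : i < 12) : par m (2 ^ i) = if m.testBit i then 1 else 0 := by
  have k : ∀ i < 12, parF 1 (parF 2 (parF 4 (parF 8 (2 ^ i)))) % 2 = 1 := by decide +kernel
  rw [par_eq, Nat.two_pow_and]
  cases m.testBit i
  · rw [Bool.toNat_false, mul_zero]; rfl
  · simpa using k i hi

theorem par_add (m : ℕ) {i x : ℕ} (hx : x < 2 ^ i) : par m (x + 2 ^ i) = (par m x + par m (2 ^ i)) % 2 := by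
  rw [← par_xor]
  congr 1
  refine Nat.eq_of_testBit_eq fun j => ?_
  change _ = (x ^^^ 2 ^ i).testBit j
  have := Nat.testBit_two_pow_mul_add 1 hx j
  rw [mul_one, add_comm] at this
  rw [this, Nat.testBit_xor, Nat.testBit_two_pow]
  rcases lt_trichotomy j i with h | rfl | h
  · simp [h, h.ne']
  · simp [Nat.testBit_lt_two_pow hx]
  · rw [if_neg h.not_gt, Nat.testBit_lt_two_pow (hx.trans (Nat.pow_lt_pow_right one_lt_two h)),
      Nat.testBit_lt_two_pow (Nat.one_lt_two_pow (by omega))]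
    simp [h.ne]

theorem evA_zero (m : ℕ → ℕ → ℕ) (gs : List ℕ) (acc : ℕ) : evA m gs 0 acc = acc := by cases gs <;> rfl

theorem evA_cons (m : ℕ → ℕ → ℕ) (g : ℕ) (gs : List ℕ) (b acc : ℕ) :
    evA m (g :: gs) b acc = evA m gs (b / 2) (if b % 2 = 0 then acc else m acc g) := by
  cases b with
  | zero => exact (evA_zero m gs acc).symm
  | succ b =>
    change frc _ (fun b' => cnd (Nat.beq ((b + 1) &&& 1) 0) (evA m gs b' acc) (frc (m acc g) (evA m gs b'))) = _
    rw [frc_eq, frc_eq, cnd_eq, Nat.and_one_is_mod]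
    simp only [Nat.beq_eq]
    split_ifs <;> rfl

theorem ev_eq (m : ℕ → ℕ → ℕ) (gs : List ℕ) (b : ℕ) : ev m gs b = evA m gs b 0 := frc_eq _ _

theorem evA_ind {m : ℕ → ℕ → ℕ} {P : ℕ → Prop} {gs : List ℕ} (h : ∀ x, P x → ∀ g ∈ gs, P (m x g)) (b : ℕ) {acc : ℕ}
    (ha : P acc) : P (evA m gs b acc) := by
  induction gs generalizing b acc with
  | nil => exact ha
  | cons g gs ih =>
    rw [evA_cons]
    refine ih (fun x hx g hg => h x hx g (List.mem_cons_of_mem _ hg)) _ ?_
    split_ifs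
    exacts [ha, h _ ha g List.mem_cons_self]

theorem evA_rel {m m' : ℕ → ℕ → ℕ} {P R : ℕ → ℕ → Prop} {gs is : List ℕ} (hc : List.Forall₂ R gs is)
    (h : ∀ x y, P x y → ∀ g ∈ gs, ∀ i ∈ is, R g i → P (m x g) (m' y i)) (b : ℕ) {x y : ℕ} (ha : P x y) :
    P (evA m gs b x) (evA m' is b y) := by
  induction hc generalizing b x y with
  | nil => exact ha
  | cons h1 _ ih =>
    rw [evA_cons, evA_cons]
    refine ih (fun x y hx g hg i hi => h x y hx g (List.mem_cons_of_mem _ hg) i (List.mem_cons_of_mem _ hi)) _ ?_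
    split_ifs
    exacts [ha, h _ _ ha _ List.mem_cons_self _ List.mem_cons_self h1]

theorem ev_lt (h : Wf l) {gs : List ℕ} (hg : ∀ x ∈ gs, x < sz l) (b : ℕ) : ev (mul l) gs b < sz l := by
  rw [ev_eq]
  exact evA_ind (P := (· < sz l)) (fun x hx g h1 => h.lt hx (hg g h1)) b (lt_of_lt_of_le (by decide) h.ge)

theorem Rep.ev_mem (h : Rep l φ) {gs : List ℕ} (hg : ∀ x ∈ gs, x < sz l) (b : ℕ) : φ (ev (mul l) gs b) ∈ gp φ gs := by
  rw [ev_eq]
  exact (evA_ind (P := fun x => x < sz l ∧ φ x ∈ gp φ gs) (fun x hx g h1 => ⟨h.wf.lt hx.1 (hg g h1), by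
    rw [h.map x hx.1 g (hg g h1)]; exact mul_mem hx.2 (subset_closure ⟨g, h1, rfl⟩)⟩) b
      ⟨lt_of_lt_of_le (by decide) h.wf.ge, h.one ▸ one_mem _⟩).2

/-- products of sublists are transported by conjugation -/
theorem CJ.ev (h : Rep l φ) (h' : Rep l' ψ) {g : G} {xs ys : List ℕ} (hc : CJ φ ψ g xs ys) (hx : ∀ x ∈ xs, x < sz l)
    (hy : ∀ y ∈ ys, y < sz l') (b : ℕ) : g * φ (ev (mul l) xs b) * g⁻¹ = ψ (ev (mul l') ys b) := by
  rw [ev_eq, ev_eq]
  exact (evA_rel (P := fun x y => x < sz l ∧ y < sz l' ∧ g * φ x * g⁻¹ = ψ y) hc (fun x y h1 u hu i hi e =>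
    ⟨h.wf.lt h1.1 (hx u hu), h'.wf.lt h1.2.1 (hy i hi), by
      rw [h.map x h1.1 u (hx u hu), h'.map y h1.2.1 i (hy i hi), ← h1.2.2, ← e, conj_mul]⟩) b
      ⟨lt_of_lt_of_le (by decide) h.wf.ge, lt_of_lt_of_le (by decide) h'.wf.ge, by simp [h.one, h'.one]⟩).2.2

theorem ev_pows (h : Wf l) {k x : ℕ} (hk : 2 ^ k ≤ sz l) (hx : x < 2 ^ k) : ev (mul l) (pows k) x = x := by
  have key : ∀ k j b acc, 2 ^ (j + k) ≤ sz l → b < 2 ^ k → acc < 2 ^ j →
      evA (mul l) ((List.range' j k).map (2 ^ ·)) b acc = acc + 2 ^ j * b := fun k => by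
    induction k with
    | zero => intro j b acc _ hb _; obtain rfl : b = 0 := by omega
              rfl
    | succ k ih =>
      intro j b acc h1 hb ha
      have h2 : 2 ^ j < sz l := (Nat.pow_lt_pow_right one_lt_two (by omega)).trans_le h1
      rw [List.range'_succ, List.map_cons, evA_cons, h.gen ha h2, ih (j + 1) _ _ (by rwa [add_assoc, add_comm 1])
        (by omega) (by split_ifs <;> omega), pow_succ, mul_assoc]
      split_ifs with e
      · rw [show 2 * (b / 2) = b by omega]
      · conv_rhs => rw [show b = 1 + 2 * (b / 2) by omega, mul_add, mul_one, ← add_assoc]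
  rw [ev_eq, pows, List.range_eq_range', key k 0 x 0 (by rwa [zero_add]) hx one_pos]
  omega

theorem mkM_sound (h : Wf l) {gs : List ℕ} (hg : ∀ x ∈ gs, x < sz l) {x : ℕ} (hx : tb (mkM (mul l) gs 0 0) x = true) :
    ∃ b < 2 ^ gs.length, ev (mul l) gs b = x := by
  have key : ∀ (gs : List ℕ) u acc, (mkM (mul l) gs u acc).testBit x = true →
      acc.testBit x = true ∨ ∃ b < 2 ^ gs.length, evA (mul l) gs b u = x := fun gs => by
    induction gs with
    | nil =>
      intro u acc h1
      change (acc ||| 1 <<< u).testBit x = true at h1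
      rw [Nat.testBit_or, Nat.one_shiftLeft, Nat.testBit_two_pow, Bool.or_eq_true, decide_eq_true_eq] at h1
      exact h1.imp_right fun e => ⟨0, one_pos, e⟩
    | cons g gs ih =>
      intro u acc h1
      change (frc (mkM (mul l) gs u acc) fun acc' => frc (mul l u g) fun x' => mkM (mul l) gs x' acc').testBit x = true at h1
      rw [frc_eq, frc_eq] at h1
      rw [List.length_cons, pow_succ]
      rcases ih _ _ h1 with h2 | ⟨b, hb, e⟩
      · refine (ih _ _ h2).imp_right fun ⟨b, hb, e⟩ => ⟨2 * b, by omega, ?_⟩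
        rw [evA_cons, if_pos (by omega), Nat.mul_div_cancel_left _ two_pos, e]
      · refine Or.inr ⟨2 * b + 1, by omega, ?_⟩
        rw [evA_cons, if_neg (by omega), show (2 * b + 1) / 2 = b by omega, e]
  simp only [ev_eq]
  exact (key gs 0 0 (tb_eq _ _ ▸ hx)).resolve_left (by simp)

theorem mkT_sound {m : ℕ → ℕ → ℕ} {R : ℕ → ℕ → Prop} {gs is : List ℕ} (hc : List.Forall₂ R gs is) {p : ℕ → ℕ → Bool}
    (b : ℕ) {x y : ℕ} (h : mkT m gs is x y p = true) : p (evA m gs b x) (evA m is b y) = true := by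
  induction hc generalizing b x y with
  | nil => exact h
  | @cons g i gs is _ _ ih =>
    have h1 := (an_iff (p := mkT m gs is x y p) (q := frc (m x g) fun x' => frc (m y i) fun y' => mkT m gs is x' y' p)).1 h
    rw [frc_eq, frc_eq] at h1
    rw [evA_cons, evA_cons]
    split_ifs
    exacts [ih _ h1.1, ih _ h1.2]

theorem mkOk_sound (h : Rep l φ) {g : G} {gs is : List ℕ} (hc : CJ φ φ g gs is) {T : ℕ}
    (hT : mkOk l (sz l) gs is T = true) : ∀ x < sz l, ∀ y, lk T x = y + 1 → y < sz l ∧ g * φ x * g⁻¹ = φ y := by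
  simp only [mkOk, an_iff, frc_eq, allL_iff, allN_iff, orr_iff, lt_iff, Nat.beq_eq] at hT
  obtain ⟨h1, h2, h3, h4⟩ := hT
  intro x hx y e
  obtain ⟨b, -, rfl⟩ := mkM_sound h.wf h1 ((h3 x hx).resolve_left (by omega))
  have := mkT_sound hc b h4
  rw [Nat.beq_eq, ← ev_eq, ← ev_eq, e] at this
  obtain rfl := Nat.succ.inj this
  exact ⟨ev_lt h.wf h2 b, hc.ev h h h1 h2 b⟩

theorem consB_sound {n B : ℕ} (hn : n ≤ 4096) (h : consB l n B = true) : Cons l n B := by
  simp only [consB, an_iff, frc_eq, allN_iff, orr_iff, lt_iff, Nat.beq_eq, Nat.ble_eq] at h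
  exact ⟨h.1, h.2.1, fun i x hx hi => (h.2.2 i ((Nat.pow_lt_pow_iff_right one_lt_two).1
    (show 2 ^ i < 2 ^ 12 by omega))).resolve_left hi.not_ge x hx⟩

theorem wfB_sound (h : wfB l = true) : Wf l := by
  induction l with
  | nil => trivial
  | cons e l ih =>
    change an _ (an _ (an _ (an _ (wfB l)))) = true at h
    simp only [an_iff, lt_iff, Nat.beq_eq, Nat.ble_eq] at h
    exact ⟨ih h.2.2.2.2, h.1, h.2.1, h.2.2.1, consB_sound (by omega) h.2.2.2.1⟩

theorem par_two {m : ℕ} : par m 2 = 0 ↔ Nat.land m 2 = 0 := by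
  change par m (2 ^ 1) = 0 ↔ m &&& 2 ^ 1 = 0
  rw [par_pow m (by decide), Nat.and_two_pow]
  cases m.testBit 1 <;> simp

theorem homB_cons {m n B c : ℕ} : homB ((n, B, c) :: l) m = true ↔
    par m c = 0 ∧ (∀ i < 12, 2 ^ i < n → par m (lk B (2 ^ i)) = par m (2 ^ i)) ∧ homB l m = true := by
  change an _ (an _ (homB l m)) = true ↔ _
  simp only [an_iff, frc_eq, allN_iff, orr_iff, Nat.beq_eq, Nat.ble_eq, ← Nat.not_le, ← or_iff_not_imp_left]
  rfl

theorem Wf.par_add (h : Wf l) (m : ℕ) {x : ℕ} (hx : x < sz l) : par m (sz l + x) = (par m x + par m (sz l)) % 2 := by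
  rw [add_comm, h.pw]; exact L3E.par_add m (h.pw ▸ hx)

theorem homB_sound (h : Wf l) {m : ℕ} (hm : homB l m = true) {x y : ℕ} (hx : x < sz l) (hy : y < sz l) :
    par m (mul l x y) = (par m x + par m y) % 2 := by
  induction l generalizing x y with
  | nil =>
    have k : ∀ x < 32, ∀ y < 32, m5 x y = Nat.xor x y ∨ m5 x y = Nat.xor (Nat.xor x y) 2 := by decide +kernel
    have h2 := par_two.2 (Nat.eq_of_beq_eq_true hm)
    rw [mul_nil]
    rcases k x hx y hy with e | e <;> simp only [e, par_xor, h2]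
    omega
  | cons e l ih =>
    obtain ⟨n, B, c⟩ := e
    obtain ⟨h1, rfl, h3, h4, h5, h6, h7⟩ := h
    obtain ⟨m1, m2, m3⟩ := homB_cons.1 hm
    dsimp only at h3 h4 h5 h6 h7
    have hB : ∀ y < sz l, par m (lk B y) = par m y := by
      rw [h1.pw]
      refine pow_ind (by rw [h5]) fun i hi x hx e => ?_
      have hi' := h1.pow_lt.2 hi
      rw [h7 i x hx hi', ih h1 m3 (h6 x (hx.trans hi')) (h6 _ hi'), e, par_add m hx,
        m2 i ((Nat.pow_lt_pow_iff_right one_lt_two).1 (show 2 ^ i < 2 ^ 12 by omega)) hi']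
    have hs : ∀ x < 2 * sz l, sz l ≤ x → x - sz l < sz l ∧ par m x = (par m (x - sz l) + par m (sz l)) % 2 :=
      fun x hx h => ⟨by omega, by rw [← h1.par_add m (by omega), Nat.add_sub_cancel' h]⟩
    rw [sz_cons] at hx hy
    rw [mul_cons]
    split_ifs with e1 e2 e2
    · obtain ⟨a1, a2⟩ := hs x hx e1
      obtain ⟨b1, b2⟩ := hs y hy e2
      rw [ih h1 m3 (h1.lt a1 (h6 _ b1)) h4, ih h1 m3 a1 (h6 _ b1), hB _ b1]
      omega
    · obtain ⟨a1, a2⟩ := hs x hx e1
      rw [h1.par_add m (h1.lt a1 (h6 _ (by omega))), ih h1 m3 a1 (h6 _ (by omega)), hB _ (by omega)]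
      omega
    · obtain ⟨b1, b2⟩ := hs y hy e2
      rw [h1.par_add m (h1.lt (by omega) b1), ih h1 m3 (by omega) b1]
      omega
    · exact ih h1 m3 (by omega) (by omega)

theorem homB_of (h : Wf l) {m : ℕ} (hm : ∀ x < sz l, ∀ y < sz l, par m (mul l x y) = (par m x + par m y) % 2) :
    homB l m = true := by
  induction l with
  | nil =>
    have h1 := hm 8 (by decide) 16 (by decide)
    have h2 := hm 16 (by decide) 8 (by decide)
    rw [show mul [] 16 8 = Nat.xor (mul [] 8 16) 2 by decide +kernel, par_xor] at h2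
    have := par_lt m 2
    exact Nat.beq_eq.mpr (par_two.1 (by omega))
  | cons e l ih =>
    obtain ⟨n, B, c⟩ := e
    obtain ⟨h1, rfl, h3, h4, h5, h6, h7⟩ := h
    dsimp only at h3 h4 h5 h6 h7
    have := h1.ge
    rw [sz_cons] at hm
    refine homB_cons.2 ⟨?_, fun i _ hi => ?_, ih h1 fun x hx y hy => ?_⟩
    · have := hm (sz l) (by omega) (sz l) (by omega)
      rw [mul_cons, if_pos le_rfl, if_pos le_rfl, Nat.sub_self, h5, h1.mul_zero (by omega), h1.zero_mul h4] at this
      omega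
    · have := hm (sz l) (by omega) (2 ^ i) (by omega)
      rw [mul_cons, if_pos le_rfl, if_neg hi.not_ge, Nat.sub_self, h1.zero_mul (h6 _ hi), h1.par_add m (h6 _ hi)] at this
      have := par_lt m (lk B (2 ^ i))
      have := par_lt m (2 ^ i)
      omega
    · rw [← hm x (by omega) y (by omega), mul_cons, if_neg hx.not_ge, if_neg hy.not_ge]

theorem Rep.com_iff (h : Rep l φ) {x y : ℕ} (hx : x < sz l) (hy : y < sz l) : com l x y = true ↔ Commute (φ x) (φ y) := by
  rw [com, Nat.beq_eq, commute_iff_eq, ← h.map x hx y hy, ← h.map y hy x hx]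
  exact ⟨fun e => by rw [e], h.inj _ (h.wf.lt hx hy) _ (h.wf.lt hy hx)⟩

end CfsgLib.L3E
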