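import Cfsg.Agent.Lib.L3E.E2
import Cfsg.Agent.Lib.L3E.Trf
import Cfsg.Agent.Lib.L3E.Box

/-! E8: Sylow subgroups: splitting, parity, fusion, transfer (plans/DIH8.md, part II) -/

set_option autoImplicit false

namespace CfsgLib.L3E

open Subgroup CfsgLib.Tech CfsgLib.MOrb Cfsg

universe u

variable {G : Type u} [Group G] [Finite G] {md : ℕ} {F : Fr G md} {c : Cfg} {s s' : St} {φ ψ : ℕ → G} {a : Aux} {l l' : Lv}

theorem e8_ext {S T : Subgroup G} {v y : G} (hS : IsPGroup 2 S) (hT : IsSylowIn 2 T (centralizer {v})) (hTS : T ≤ S)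
    (h : IsConj y v) : ∃ g : G, g * y * g⁻¹ = v ∧ ∀ r ∈ S, Commute r y → g * r * g⁻¹ ∈ S := by
  obtain ⟨k, hk⟩ := isConj_iff.1 h
  obtain ⟨g, hg, e⟩ := hT.exists_cj_le (isPGroup_cj k (hS.to_inf_left (K := centralizer {y})))
    (by rw [← hk, ← cj_centralizer_singleton]; exact cj_mono k inf_le_right)
  refine ⟨g * k, ?_, fun r hr hc => hTS ?_⟩
  · have := mem_centralizer_singleton_iff.1 hg
    calc g * k * y * (g * k)⁻¹ = g * (k * y * k⁻¹) * g⁻¹ := by group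
      _ = v := by rw [hk, this, mul_inv_cancel_right]
  · rw [← cj_mul] at e
    exact e (conj_mem_cj.2 ⟨hr, mem_centralizer_singleton_iff.2 hc⟩)

/-- every element of a Sylow subgroup has an extremal conjugate -/
theorem extremal' {S : Subgroup G} (hS : IsSylowIn 2 S ⊤) {x : G} (hx : x ∈ S) : ∃ v ∈ S, IsConj x v ∧
    ∀ y ∈ S, IsConj y v → ∃ g : G, g * y * g⁻¹ = v ∧ ∀ r ∈ S, Commute r y → g * r * g⁻¹ ∈ S := by
  obtain ⟨T, hT, hxT⟩ := exists_isSylowIn_ge (isPGroup_zpowers_of_mem hS.pgroup hx)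
    (zpowers_le.2 (mem_centralizer_singleton_iff.2 rfl : x ∈ centralizer {x}))
  obtain ⟨g, -, hg⟩ := hS.exists_cj_le hT.pgroup le_top
  refine ⟨g * x * g⁻¹, hg (conj_mem_cj.2 (hxT (mem_zpowers x))), isConj_iff.2 ⟨g, rfl⟩, fun y _ h => ?_⟩
  exact e8_ext hS.pgroup (cj_centralizer_singleton g x ▸ hT.cj g) hg h

theorem extremal_central {S : Subgroup G} (hS : IsSylowIn 2 S ⊤) {v y : G} (hv : ∀ r ∈ S, Commute r v) (hy : y ∈ S)
    (h : IsConj y v) : ∃ g : G, g * y * g⁻¹ = v ∧ ∀ r ∈ S, Commute r y → g * r * g⁻¹ ∈ S :=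
  have _ := hy
  e8_ext hS.pgroup (hS.of_le (fun r hr => mem_centralizer_singleton_iff.2 (hv r hr)) le_top) le_rfl h

theorem e8_xor {i x : ℕ} (hx : x < 2 ^ i) : x + 2 ^ i = Nat.xor x (2 ^ i) := by
  refine Nat.eq_of_testBit_eq fun j => ?_
  change _ = (x ^^^ 2 ^ i).testBit j
  have := Nat.testBit_two_pow_mul_add 1 hx j
  rw [mul_one, add_comm] at this
  rw [this, Nat.testBit_xor, Nat.testBit_two_pow]
  rcases lt_trichotomy j i with h | rfl | h
  · simp [h, h.ne']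
  · simp [Nat.testBit_lt_two_pow hx]
  · obtain ⟨d, rfl⟩ : ∃ d, j = i + (d + 1) := ⟨j - i - 1, by omega⟩
    rw [Nat.testBit_lt_two_pow (hx.trans (Nat.pow_lt_pow_right (by norm_num) h)), if_neg (by omega),
      Nat.add_sub_cancel_left]
    simp [Nat.testBit_succ]

theorem e8_mulK (F : Fr G md) (x y : G) : x * y ∈ F.K ↔ (x ∈ F.K ↔ y ∈ F.K) := by
  by_cases h : F.j 1 ∈ F.K
  · simp [F.top_of_mem h]
  · exact mul_mem_iff_of_index_two (F.index_of_not_mem h)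

theorem e8_allM {ms : List ℕ} (hm : AllM.{u} c s ms) {m : ℕ} (h : m ∈ ms) : Sound.{u} c s (m + 2) := by
  induction hm with
  | nil => cases h
  | cons h1 _ ih =>
    rcases List.mem_cons.1 h with rfl | h
    · exact h1
    · exact ih h

theorem AuxS.spl {rs : List (ℕ × List ℕ)} {ms : List ℕ} (h : AuxS.{u} c s 0 a) (b : splB s a rs ms = true)
    (hm : AllM.{u} c s ms) (hn : Sound.{u} c s 1) : Sound.{u} c s 0 := by
  classical
  intro G _ _ F φ v _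
  by_cases hS : IsSylowIn 2 (img s.lv φ) ⊤
  swap
  · exact hn G F φ v hS
  have h := h G F φ v trivial
  simp only [splB, an_iff, orr_iff, ne_iff, lt_iff, allN_iff, allL_iff, anyL_iff, mapK_eq, cnd_eq, memL_iff,
    Nat.beq_eq, List.map_id] at b
  obtain ⟨b1, b2⟩ := b
  have hk : sz s.lv = 2 ^ a.k := h.n ▸ h.k
  have hk12 : a.k < 12 := by
    have := v.rep.wf.le
    rw [hk] at this
    by_contra h12
    have := Nat.pow_le_pow_right (n := 2) (by norm_num) (not_lt.1 h12)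
    omega
  have hk0 : 0 < a.k := by
    have := v.rep.wf.ge
    rw [hk] at this
    rcases Nat.eq_zero_or_pos a.k with e | e
    · rw [e] at this; omega
    · exact e
  obtain ⟨m, hm1, hm2⟩ : ∃ m < 2 ^ a.k, ∀ i < a.k, m.testBit i = decide (φ (2 ^ i) ∉ F.K) :=
    ⟨Nat.ofBits fun i : Fin a.k => decide (φ (2 ^ (i : ℕ)) ∉ F.K), Nat.ofBits_lt_two_pow _,
      fun i hi => Nat.testBit_ofBits_lt _ i hi⟩
  have key : ∀ x < 2 ^ a.k, φ x ∈ F.K ↔ par m x = 0 := by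
    refine pow_ind (by simp [v.rep.one, par_zero]) fun i hi x hx ih => ?_
    rw [v.rep.add hx (hk ▸ Nat.pow_lt_pow_right (by norm_num) hi), e8_mulK, e8_xor hx, par_xor,
      par_pow m (by omega), hm2 i hi, ih]
    have := par_lt m x
    by_cases e : φ (2 ^ i) ∈ F.K <;> simp [e] <;> omega
  rw [← hk] at key
  rcases b2 m (h.k ▸ hm1) with ⟨b3, b4⟩ | ⟨w, hw, b3⟩ | b3 | b3
  · exfalso
    have e1 : m.testBit 0 = false := by
      rw [Nat.testBit_zero, decide_eq_false_iff_not, ← Nat.and_one_is_mod]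
      exact fun e => absurd (b4.symm.trans e) (by norm_num)
    rw [hm2 0 hk0, pow_zero, v.base 1 (by norm_num), decide_eq_false_iff_not, not_not] at e1
    refine b3 (Nat.eq_of_testBit_eq fun i => ?_)
    by_cases hi : i < a.k
    · simp [hm2 i hi, F.top_of_mem e1]
    · rw [Nat.testBit_lt_two_pow (hm1.trans_le (Nat.pow_le_pow_right (by norm_num) (not_lt.1 hi))),
        Nat.zero_testBit]
  · exfalso
    obtain ⟨e, he, rfl⟩ := List.mem_map.1 hw
    obtain ⟨b4, b5⟩ := b1 e he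
    obtain ⟨g, hg⟩ := h.apw v e.2
    obtain ⟨y, hy⟩ := Nat.exists_eq_succ_of_ne_zero b5
    obtain ⟨h1, h2⟩ := hg _ b4 y hy
    rw [hy, Nat.pred_succ, par_xor] at b3
    have h3 : φ e.1 ∈ F.K ↔ φ y ∈ F.K := by rw [← h2]; exact (F.nK.mem_comm_iff.trans (by simp)).symm
    rw [key _ (h.n ▸ b4), key _ (h.n ▸ h1)] at h3
    have := par_lt m e.1
    have := par_lt m y
    omega
  · exact e8_allM hm b3 G F φ v ⟨hS, key⟩
  · exfalso
    rw [homB_of v.rep.wf fun x hx y hy => ?_] at b3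
    · simp at b3
    have h1 := key _ (v.rep.wf.lt hx hy)
    rw [v.rep.map x hx y hy, e8_mulK, key x hx, key y hy] at h1
    have := par_lt m x
    have := par_lt m y
    have := par_lt m (mul s.lv x y)
    omega

theorem AuxS.par (h : AuxS.{u} c s 0 a) (b : parB c a = true) (hn : Sound.{u} c s 1) : Sound.{u} c s 0 := by
  classical
  intro G _ _ F φ v _
  by_cases hS : IsSylowIn 2 (img s.lv φ) ⊤
  swap
  · exact hn G F φ v hS
  have h := h G F φ v trivial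
  exfalso
  simp only [parB, an_iff, orr_iff, ne_iff, allN_iff, frc_eq, Nat.beq_eq] at b
  obtain ⟨b1, b2⟩ := b
  set L := (List.range a.nc).filter fun i => an (Nat.beq (lk a.ds i) 2) (Nat.beq (lk a.cn i) (sz (lvT c.md))) with hL
  have mL : ∀ i, i ∈ L ↔ i < a.nc ∧ lk a.ds i = 2 ∧ lk a.cn i = sz (lvT c.md) := fun i => by
    simp only [hL, List.mem_filter, List.mem_range, an_iff, Nat.beq_eq]
  have hN : sz (lvT c.md) ≠ 0 := by have := (wf_lvT c.md).ge; omega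
  have hinj : ∀ i < a.nc, ∀ j < a.nc, ∀ p ∈ img s.lv φ, p * φ (lk a.rp i) * p⁻¹ = φ (lk a.rp j) → i = j := by
    intro i hi j hj p hp e
    obtain ⟨p, hp', rfl⟩ := v.rep.mem_img.1 hp
    rw [← (h.rp i hi).2.1, ← (h.rp j hj).2.1]
    exact h.cc _ (h.rp i hi).1 _ (h.rp j hj).1 p (h.n ▸ hp') e
  have h1 := F.parity hS (L.toFinset.image fun i => φ (lk a.rp i)) (fun d hd => ?_) (fun d hd d' hd' p hp e => ?_)
    (fun d hd hD hc => ?_)
  · rw [Finset.card_image_of_injOn fun i hi j hj e => hinj i ((mL i).1 (List.mem_toFinset.1 hi)).1 j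
      ((mL j).1 (List.mem_toFinset.1 hj)).1 1 (one_mem _) (by simpa using e),
      List.toFinset_card_of_nodup (List.nodup_range.filter _), Nat.odd_iff] at h1
    exact absurd (b2.symm.trans h1) (by norm_num)
  · obtain ⟨i, hi, rfl⟩ := Finset.mem_image.1 hd
    obtain ⟨h1, h2, h3⟩ := (mL i).1 (List.mem_toFinset.1 hi)
    exact ⟨v.rep.mem_img.2 ⟨_, h.n ▸ (h.rp i h1).1, rfl⟩, (h.ds i h1).2 h2,
      (h.cn i h1 (h3 ▸ hN)).symm.trans h3⟩
  · obtain ⟨i, hi, rfl⟩ := Finset.mem_image.1 hd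
    obtain ⟨j, hj, rfl⟩ := Finset.mem_image.1 hd'
    rw [hinj i ((mL i).1 (List.mem_toFinset.1 hi)).1 j ((mL j).1 (List.mem_toFinset.1 hj)).1 p hp e]
  · obtain ⟨x, hx, rfl⟩ := v.rep.mem_img.1 hd
    obtain ⟨h1, h2, h3⟩ := h.cls x (h.n ▸ hx)
    have hp : φ (lk a.cp x) ∈ img s.lv φ := v.rep.mem_img.2 ⟨_, h.n ▸ h2, rfl⟩
    have h4 : F.toFr.D (φ (lk a.rp (lk a.ci x))) := IsConj.trans hD (h.isConj_rp (h.n ▸ hx))
    obtain ⟨h5, h6⟩ := (b1 _ h1).resolve_left fun e => (h.ds _ h1).1 e h4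
    have h7 : lk a.cn (lk a.ci x) = sz (lvT c.md) := by
      rw [h.cn _ h1 h5, ← hc, ← h3, ← cj_centralizer_singleton]
      nth_rw 1 [← cj_eq_of_mem hp]
      rw [← cj_inf, card_cj]
    refine ⟨_, Finset.mem_image_of_mem _ (List.mem_toFinset.2 ((mL _).2 ⟨h1, h6.resolve_left (not_not.2 h7), h7⟩)),
      (φ (lk a.cp x))⁻¹, inv_mem hp, ?_⟩
    rw [← h3]; group

theorem e8_lv {lv : List Lvl} : ∀ {gs : List ℕ}, lvB l a lv gs = true → ∀ e ∈ lv, e.g < a.n := by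
  induction lv with
  | nil => intro _ _ e he; cases he
  | cons w lv ih =>
    intro gs b e he
    change an _ (an _ (an _ (mapK id _ fun gs' => an _ (lvB l a lv gs')))) = true at b
    simp only [an_iff, lt_iff, mapK_eq] at b
    rcases List.mem_cons.1 he with rfl | he
    · exact b.1
    · exact ih b.2.2.2.2 e he

theorem e8_pw_succ (e x : ℕ) (L : List ℕ) : pwL l (e + 1) x L = pwL l e (mul l x x) (x :: L) := by
  change frc (mul l x x) (fun y => pwL l e y (x :: L)) = _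
  rw [frc_eq]

omit [Finite G] in
theorem e8_pw_cj (h : Rep l φ) {g : G} (e : ℕ) : ∀ {x y : ℕ} {L M : List ℕ}, x < sz l → y < sz l →
    (∀ z ∈ L, z < sz l) → (∀ z ∈ M, z < sz l) → CJ φ φ g L M → g * φ x * g⁻¹ = φ y →
    (∀ z ∈ pwL l e x L, z < sz l) ∧ (∀ z ∈ pwL l e y M, z < sz l) ∧ CJ φ φ g (pwL l e x L) (pwL l e y M) := by
  induction e with
  | zero =>
    intro x y L M hx hy hL hM hc e
    exact ⟨List.forall_mem_cons.2 ⟨hx, hL⟩, List.forall_mem_cons.2 ⟨hy, hM⟩, List.Forall₂.cons e hc⟩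
  | succ e ih =>
    intro x y L M hx hy hL hM hc e
    rw [e8_pw_succ, e8_pw_succ]
    refine ih (h.wf.lt hx hx) (h.wf.lt hy hy) (List.forall_mem_cons.2 ⟨hx, hL⟩) (List.forall_mem_cons.2 ⟨hy, hM⟩)
      (List.Forall₂.cons e hc) ?_
    rw [h.map x hx x hx, h.map y hy y hy, ← e]; group

theorem e8_pw_sub (e : ℕ) : ∀ {x : ℕ} {L : List ℕ}, L ⊆ pwL l e x L := by
  induction e with
  | zero => intro x L; exact List.subset_cons_self x L
  | succ e ih => intro x L; rw [e8_pw_succ]; exact List.Subset.trans (List.subset_cons_self x L) ih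

omit [Finite G] in
theorem e8_pw_mem (h : Rep l φ) (e : ℕ) : ∀ {x : ℕ} {L : List ℕ}, x < sz l → ∀ t ≤ e,
    ∃ w ∈ pwL l e x L, w < sz l ∧ φ w = φ x ^ 2 ^ t := by
  induction e with
  | zero =>
    intro x L hx t ht
    exact ⟨x, List.mem_cons_self, hx, by simp [Nat.le_zero.1 ht]⟩
  | succ e ih =>
    intro x L hx t ht
    rw [e8_pw_succ]
    rcases t with _ | t
    · exact ⟨x, e8_pw_sub e List.mem_cons_self, hx, by simp⟩
    · obtain ⟨w, h1, h2, h3⟩ := ih (L := x :: L) (h.wf.lt hx hx) t (by omega)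
      exact ⟨w, h1, h2, by rw [h3, h.map x hx x hx, ← sq, ← pow_mul, pow_succ']⟩

theorem e8_bit (f i k : ℕ) : (Nat.lor f (Nat.shiftLeft 1 i)).testBit k = true ↔ f.testBit k = true ∨ k = i := by
  change (f ||| 1 <<< i).testBit k = true ↔ _
  rw [Nat.testBit_or, Nat.one_shiftLeft, Nat.testBit_two_pow, Bool.or_eq_true, decide_eq_true_iff, eq_comm (a := i)]

theorem e8_fold {α : Type} {st : ℕ → α → ℕ} {P : α → ℕ → Prop}
    (hs : ∀ f q k, (st f q).testBit k = true → f.testBit k = true ∨ P q k) (L : List α) :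
    ∀ f k, (L.foldl st f).testBit k = true → f.testBit k = true ∨ ∃ q ∈ L, P q k := by
  induction L with
  | nil => intro f k h; exact Or.inl h
  | cons q L ih =>
    intro f k h
    rcases ih _ k h with h | ⟨q', h1, h2⟩
    · exact (hs f q k h).imp id fun h => ⟨q, List.mem_cons_self, h⟩
    · exact Or.inr ⟨q', List.mem_cons_of_mem _ h1, h2⟩

theorem e8_pair {n i j i' j' : ℕ} (hj : j < n) (hj' : j' < n) (e : i * n + j = Nat.add (Nat.mul i' n) j') :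
    i = i' ∧ j = j' := by
  change i * n + j = i' * n + j' at e
  have h1 := congrArg (· % n) e
  simp only [Nat.mul_add_mod_of_lt hj, Nat.mul_add_mod_of_lt hj'] at h1
  subst h1
  exact ⟨Nat.eq_of_mul_eq_mul_right (by omega) (Nat.add_right_cancel e), rfl⟩

theorem AuxS.ne {x f : ℕ} {cs : List Nc} (h : AuxS.{u} c s x a) (b : neB s a f cs = true) :
    AuxS.{u} c s x (a.setNe f) := by
  intro G _ _ F φ v hy
  have h := h G F φ v hy
  refine ⟨h.n, h.k, h.iv, h.cls, h.rp, h.r1, h.cc, h.mt, h.cn, h.cl, h.kt, h.ds, h.lam, h.nf, ?_⟩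
  change ∀ i < a.nc, ∀ j < a.nc, tb f (i * a.nc + j) = true → ¬ Emb a.n φ (lk a.rp i) (lk a.rp j)
  intro i hi j hj ht ⟨g, hg, hg'⟩
  simp only [neB, an_iff, ne_iff, lt_iff, allL_iff, frc_eq, Nat.beq_eq] at b
  obtain ⟨b1, rfl⟩ := b
  rw [tb_eq] at ht
  rcases e8_fold (P := fun (q : Nc) k => ∃ j ∈ q.js, k = Nat.add (Nat.mul q.i a.nc) j)
    (fun f q k => e8_fold (P := fun j k => k = Nat.add (Nat.mul q.i a.nc) j) (fun f j k => (e8_bit _ _ _).1) _ f k)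
    cs _ _ ht with ht | ⟨q, hq, j', hj', e⟩
  · exact h.ne i hi j hj (by rw [tb_eq]; exact ht) ⟨g, hg, hg'⟩
  obtain ⟨-, b2, b3, b4⟩ := b1 q hq
  obtain ⟨b5, b6, b7⟩ := b4 j' hj'
  obtain ⟨rfl, rfl⟩ := e8_pair hj b5 e
  have hu := (h.rp _ hi).1
  obtain ⟨h1, h2, h3⟩ := e8_pw_cj v.rep q.e (L := []) (M := []) (h.n ▸ hu) (h.n ▸ (h.rp _ hj).1) (by simp) (by simp)
    List.Forall₂.nil hg
  rw [← h.n] at h1 h2
  refine absurd (dfsP_sound v h (g := g) (fun e he => ?_) h1 h2 h3 b2 b7) (by simp)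
  have h4 := e8_lv b2 e he
  have h5 := (v.rep.com_iff (h.n ▸ h4) (h.n ▸ hu)).1 (b3 e he).2
  obtain ⟨y, h6, h7⟩ := hg' _ h4 h5
  refine ⟨y, h6, h7, fun _ => (h.cl _ hj b6 y).2 ⟨h6, ?_⟩, fun e' => absurd (b3 e he).1 e'⟩
  rw [← h7, ← hg]
  exact h5.map (MulAut.conj g)

theorem e8_emb (v : Valid F s φ) (h : AuxOk F s φ a) {x z : ℕ} (hz : z < a.n) {g : G} (e : g * φ x * g⁻¹ = φ z)
    (hg : ∀ r ∈ img s.lv φ, Commute r (φ x) → g * r * g⁻¹ ∈ img s.lv φ) :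
    Emb a.n φ x (lk a.rp (lk a.ci z)) := by
  obtain ⟨-, h2, h3⟩ := h.cls z hz
  have hp : φ (lk a.cp z) ∈ img s.lv φ := v.rep.mem_img.2 ⟨_, h.n ▸ h2, rfl⟩
  refine ⟨φ (lk a.cp z) * g, by rw [← h3, ← e]; group, fun r hr hc => ?_⟩
  obtain ⟨r', h4, h5⟩ := v.rep.mem_img.1
    (mul_mem (mul_mem hp (hg _ (v.rep.mem_img.2 ⟨r, h.n ▸ hr, rfl⟩) hc)) (inv_mem hp))
  exact ⟨r', h.n ▸ h4, by rw [h5]; group⟩

theorem e8_cls (v : Valid F s φ) (h : AuxOk F s φ a) {x : ℕ} (hx : x < a.n) {ws : List (List ℕ)}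
    (hw : ∀ w ∈ ws, apw s.lv a w (Nat.succ x) ≠ 0) {i : ℕ}
    (hi : i ∈ ws.map fun w => lk a.ci (Nat.pred (apw s.lv a w (Nat.succ x)))) :
    i < a.nc ∧ IsConj (φ (lk a.rp i)) (φ x) := by
  obtain ⟨w, hw', rfl⟩ := List.mem_map.1 hi
  obtain ⟨g, hg⟩ := h.apw v w
  obtain ⟨y, hy⟩ := Nat.exists_eq_succ_of_ne_zero (hw w hw')
  obtain ⟨h1, h2⟩ := hg _ hx y hy
  rw [hy, Nat.pred_succ]
  exact ⟨(h.cls y h1).1, ((isConj_iff.2 ⟨g, h2⟩).trans (h.isConj_rp h1)).symm⟩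

theorem AuxS.nf {m f : ℕ} {cs : List Fc} (h : AuxS.{u} c s (m + 2) a) (b : nfB s a f cs = true) :
    AuxS.{u} c s (m + 2) (a.setNf f) := by
  intro G _ _ F φ v hy
  have h := h G F φ v hy
  have hS := hy.1
  refine ⟨h.n, h.k, h.iv, h.cls, h.rp, h.r1, h.cc, h.mt, h.cn, h.cl, h.kt, h.ds, h.lam, ?_, h.ne⟩
  change ∀ i < a.nc, ∀ j < a.nc, tb f (i * a.nc + j) = true → ¬ IsConj (φ (lk a.rp i)) (φ (lk a.rp j))
  simp only [nfB, an_iff, lt_iff, allL_iff, frc_eq, Nat.beq_eq, cnd_eq, mapK_eq, List.map_id] at b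
  obtain ⟨b1, rfl⟩ := b
  have key : ∀ q ∈ cs, ¬ IsConj (φ (lk a.rp q.i)) (φ (lk a.rp q.k)) := by
    intro q hq hc
    obtain ⟨hi, hk, b2⟩ := b1 q hq
    have hx := (h.rp _ hi).1
    have hy := (h.rp _ hk).1
    have mem : ∀ i < a.nc, φ (lk a.rp i) ∈ img s.lv φ := fun i hi =>
      v.rep.mem_img.2 ⟨_, h.n ▸ (h.rp i hi).1, rfl⟩
    by_cases t0 : q.ty = 0
    · rw [if_pos t0] at b2
      rw [h.n] at hx hy
      refine h.clash (h.n ▸ v.rep.wf.lt hx hx) (h.n ▸ v.rep.wf.lt hy hy) b2 ?_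
      rw [v.rep.map _ hx _ hx, v.rep.map _ hy _ hy, ← sq, ← sq]
      exact hc.pow 2
    rw [if_neg t0] at b2
    simp only [an_iff, allL_iff, ne_iff] at b2
    obtain ⟨b3, b4, b5⟩ := b2
    by_cases t1 : q.ty = 1
    · rw [if_pos t1] at b5
      simp only [anyL_iff, an_iff, Nat.beq_eq] at b5
      obtain ⟨k, hk1, b6, i, hi1, b7⟩ := b5
      obtain ⟨h1, h2⟩ := e8_cls v h hx b3 hi1
      obtain ⟨h3, h4⟩ := e8_cls v h hy b4 hk1
      have h5 : img s.lv φ ⊓ centralizer {φ (lk a.rp k)} = img s.lv φ := by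
        refine eq_of_le_of_card_ge inf_le_left ?_
        rw [← h.cn k h3 (by omega), b6, v.rep.card_img, h.n]
      obtain ⟨g, h6, h7⟩ := extremal_central hS (v := φ (lk a.rp k))
        (fun r hr => mem_centralizer_singleton_iff.1 (h5.ge hr).2) (mem i h1) ((h2.trans hc).trans h4.symm)
      refine h.neT v h1 h3 b7 ?_
      have := e8_emb v h (h.rp k h3).1 h6 h7
      rwa [(h.rp k h3).2.1] at this
    rw [if_neg t1] at b5
    simp only [allN_iff, orr_iff, anyL_iff] at b5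
    obtain ⟨w, hw, h1, h2⟩ := extremal' hS (mem _ hi)
    obtain ⟨z, hz, rfl⟩ := v.rep.mem_img.1 hw
    rw [← h.n] at hz
    have hj := (h.cls z hz).1
    rcases b5 _ hj with ⟨i, hi1, b6⟩ | ⟨k, hk1, b6⟩
    · obtain ⟨h3, h4⟩ := e8_cls v h hx b3 hi1
      obtain ⟨g, h5, h6⟩ := h2 _ (mem i h3) (h4.trans h1)
      exact h.neT v h3 hj b6 (e8_emb v h hz h5 h6)
    · obtain ⟨h3, h4⟩ := e8_cls v h hy b4 hk1
      obtain ⟨g, h5, h6⟩ := h2 _ (mem k h3) ((h4.trans hc.symm).trans h1)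
      exact h.neT v h3 hj b6 (e8_emb v h hz h5 h6)
  intro i hi j hj ht hc
  rw [tb_eq] at ht
  rcases e8_fold (P := fun (q : Fc) k => k = Nat.add (Nat.mul q.i a.nc) q.k ∨ k = Nat.add (Nat.mul q.k a.nc) q.i)
    (fun f q k e => by rwa [e8_bit, e8_bit, or_assoc] at e) cs _ _ ht with ht | ⟨q, hq, e | e⟩
  · exact h.nf i hi j hj (by rw [tb_eq]; exact ht) hc
  · obtain ⟨rfl, rfl⟩ := e8_pair hj (b1 q hq).2.1 e
    exact key q hq hc
  · obtain ⟨rfl, rfl⟩ := e8_pair hj (b1 q hq).1 e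
    exact key q hq hc.symm

theorem AuxS.tp {m m' i : ℕ} (h : AuxS.{u} c s (m + 2) a) (b : tpB s a m m' i = true) : Sound.{u} c s (m + 2) := by
  intro G _ _ F φ v hy
  have h := h G F φ v hy
  obtain ⟨hS, hK⟩ := hy
  exfalso
  simp only [tpB, an_iff, lt_iff, allN_iff, frc_eq, Nat.beq_eq, cnd_eq, mapK_eq] at b
  obtain ⟨hi, b1, b2, b3, b4⟩ := b
  have hom := fun {x y : ℕ} => homB_sound (x := x) (y := y) v.rep.wf b1
  have hiv : ∀ x < sz s.lv, lk a.iv x < sz s.lv ∧ φ (lk a.iv x) = (φ x)⁻¹ ∧ L3E.par m' (lk a.iv x) = L3E.par m' x := by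
    intro x hx
    obtain ⟨h1, h2⟩ := h.iv x (h.n ▸ hx)
    rw [h.n] at h1
    refine ⟨h1, h2, ?_⟩
    have h3 := hom hx h1
    rw [(v.rep.eq_one (v.rep.wf.lt hx h1)).1 (by rw [v.rep.map _ hx _ h1, h2, mul_inv_cancel]), par_zero] at h3
    have := par_lt m' x
    have := par_lt m' (lk a.iv x)
    omega
  let M : Subgroup G :=
    { carrier := {g | ∃ x < sz s.lv, L3E.par m' x = 0 ∧ φ x = g}
      one_mem' := ⟨0, by have := v.rep.wf.ge; omega, par_zero _, v.rep.one⟩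
      mul_mem' := by
        rintro _ _ ⟨x, hx, h1, rfl⟩ ⟨y, hy, h2, rfl⟩
        exact ⟨_, v.rep.wf.lt hx hy, by rw [hom hx hy, h1, h2], v.rep.map x hx y hy⟩
      inv_mem' := by
        rintro _ ⟨x, hx, h1, rfl⟩
        exact ⟨_, (hiv x hx).1, (hiv x hx).2.2.trans h1, (hiv x hx).2.1⟩ }
  have mM : ∀ x < sz s.lv, φ x ∈ M ↔ L3E.par m' x = 0 := fun x hx =>
    ⟨fun ⟨y, hy, h1, e⟩ => v.rep.inj y hy x hx e ▸ h1, fun h1 => ⟨x, hx, h1, rfl⟩⟩
  have prp : ∀ z < sz s.lv, L3E.par m' (lk a.rp (lk a.ci z)) = L3E.par m' z := by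
    intro z hz
    obtain ⟨h1, h2, h3⟩ := h.cls z (h.n ▸ hz)
    have h4 := (h.rp _ h1).1
    rw [h.n] at h2 h4
    have h5 : mul s.lv (lk a.cp z) z = mul s.lv (lk a.rp (lk a.ci z)) (lk a.cp z) :=
      v.rep.inj _ (v.rep.wf.lt h2 hz) _ (v.rep.wf.lt h4 h2) (by
        rw [v.rep.map _ h2 _ hz, v.rep.map _ h4 _ h2, ← h3, inv_mul_cancel_right])
    have h6 := hom h2 hz
    rw [h5, hom h4 h2] at h6
    have := par_lt m' z
    have := par_lt m' (lk a.rp (lk a.ci z))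
    omega
  obtain ⟨hu, -, ho⟩ := h.rp i hi
  rw [h.n] at hu
  have huS : φ (lk a.rp i) ∈ img s.lv φ := v.rep.mem_img.2 ⟨_, hu, rfl⟩
  obtain ⟨g, -, ⟨z, hz, h1, h2⟩, h3⟩ := L3E.tp hS (M := M)
    (by rintro _ ⟨x, hx, -, rfl⟩; exact v.rep.mem_img.2 ⟨x, hx, rfl⟩)
    (relIndex_eq_two_iff.2 ⟨_, huS, fun y hy0 => by
      obtain ⟨y, hy, rfl⟩ := v.rep.mem_img.1 hy0
      rw [← v.rep.map _ hy _ hu, mM _ (v.rep.wf.lt hy hu), mM _ hy, hom hy hu, b3]
      have := par_lt m' y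
      rcases (by omega : L3E.par m' y = 0 ∨ L3E.par m' y = 1) with e | e <;> simp [e, Xor]⟩) huS
    (fun f => F.toFr.hom_one ((hK _ hu).2 b2) (f.comp (topEquiv (G := G)).symm.toMonoidHom))
    (fun t ht g _ hg => by
      obtain ⟨z, hz, e⟩ := v.rep.mem_img.1 hg
      rw [← e, mM z hz, ← prp z hz]
      by_contra h0
      have hj := (h.cls z (h.n ▸ hz)).1
      have b5 := b4 _ hj
      rw [if_neg h0, allL_iff] at b5
      obtain ⟨w, h1, h2, h3⟩ : ∃ w ∈ pwL s.lv (Nat.pred (lk a.od i)) (mul s.lv (lk a.rp i) (lk a.rp i)) [],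
          w < sz s.lv ∧ φ w = φ (lk a.rp i) ^ 2 ^ t := by
        obtain ⟨w, h1, h2, h3⟩ := e8_pw_mem v.rep (Nat.pred (lk a.od i)) (L := []) (v.rep.wf.lt hu hu)
          (min (t - 1) (Nat.pred (lk a.od i))) (min_le_right _ _)
        refine ⟨w, h1, h2, ?_⟩
        rw [h3, v.rep.map _ hu _ hu, ← sq, ← pow_mul, ← pow_succ']
        rw [Nat.pred_eq_sub_one]
        by_cases h4 : t - 1 ≤ lk a.od i - 1
        · rw [min_eq_left h4, Nat.sub_add_cancel ht]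
        · rw [min_eq_right (by omega), orderOf_dvd_iff_pow_eq_one.1 (ho ▸ pow_dvd_pow 2 (by omega)),
            orderOf_dvd_iff_pow_eq_one.1 (ho ▸ pow_dvd_pow 2 (by omega))]
      refine h.nfT (h.cls w (h.n ▸ h2)).1 hj (b5 _ (List.mem_map_of_mem h1)) ?_
      exact ((h.isConj_rp (h.n ▸ h2)).symm.trans (isConj_iff.2 ⟨g, by rw [h3, e]⟩)).trans (h.isConj_rp (h.n ▸ hz)))
  have hj := (h.cls z (h.n ▸ hz)).1
  have b5 := b4 _ hj
  rw [if_pos ((prp z hz).trans h1)] at b5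
  exact h.neT v hi hj b5 (e8_emb v h (h.n ▸ hz) h2.symm h3)

end CfsgLib.L3E
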