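import Cfsg.Agent.Lib.L3E.E2
import Cfsg.Agent.Lib.L3E.E4a
import Cfsg.Agent.Lib.L3E.E8

/-! E11: the weakly closed subgroup generated by the subgroups of type `2⁶` (plans/DIH8.md, part II) -/

set_option autoImplicit false

namespace CfsgLib.L3E

open Subgroup CfsgLib.Tech CfsgLib.MOrb Cfsg
open scoped commutatorElement

universe u

variable {c : Cfg} {s s' : St} {a : Aux}

section

variable {G : Type u} [Group G] {l : Lv} {φ : ℕ → G}

/-- the product of the selected members -/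
def e11P (φ : ℕ → G) : List ℕ → ℕ → G
  | [], _ => 1
  | g :: gs, b => (if b % 2 = 0 then 1 else φ g) * e11P φ gs (b / 2)

theorem e11_evA (h : Rep l φ) {gs : List ℕ} (hg : ∀ x ∈ gs, x < sz l) :
    ∀ b acc, acc < sz l → φ (evA (mul l) gs b acc) = φ acc * e11P φ gs b := by
  induction gs with
  | nil => intro b acc _; exact (mul_one _).symm
  | cons g gs ih =>
    intro b acc ha
    have h1 := hg g (.head _)
    rw [evA_cons, e11P]
    split_ifs with e
    · rw [ih (fun x hx => hg x (.tail _ hx)) _ _ ha, one_mul]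
    · rw [ih (fun x hx => hg x (.tail _ hx)) _ _ (h.wf.lt ha h1), h.map _ ha _ h1, mul_assoc]

theorem e11_ev (h : Rep l φ) {gs : List ℕ} (hg : ∀ x ∈ gs, x < sz l) (b : ℕ) :
    φ (ev (mul l) gs b) = e11P φ gs b := by
  rw [ev_eq, e11_evA h hg b 0 (lt_of_lt_of_le (by norm_num) h.wf.ge), h.one, one_mul]

theorem e11_zero (gs : List ℕ) : e11P φ gs 0 = 1 := by
  induction gs with
  | nil => rfl
  | cons g gs ih => rw [e11P]; simp [ih]

theorem e11_comm {gs : List ℕ} {y : G} (hc : ∀ x ∈ gs, Commute (φ x) y) :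
    ∀ b, Commute (e11P φ gs b) y := by
  induction gs with
  | nil => intro b; exact Commute.one_left y
  | cons g gs ih =>
    intro b
    rw [e11P]
    refine Commute.mul_left ?_ (ih (fun x hx => hc x (.tail _ hx)) _)
    split_ifs
    · exact Commute.one_left y
    · exact hc g (.head _)

theorem e11_xor {gs : List ℕ} (h2 : ∀ x ∈ gs, φ x * φ x = 1) (hc : ∀ x ∈ gs, ∀ y ∈ gs, Commute (φ x) (φ y)) :
    ∀ b b', e11P φ gs (b ^^^ b') = e11P φ gs b * e11P φ gs b' := by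
  induction gs with
  | nil => intro b b'; exact (mul_one _).symm
  | cons g gs ih =>
    intro b b'
    have k := e11_comm (φ := φ) (gs := gs) (y := φ g) (fun x hx => hc x (.tail _ hx) g (.head _)) (b / 2)
    have e1 : (b ^^^ b') % 2 = (b % 2 + b' % 2) % 2 := by rw [Nat.xor_mod_two_eq, Nat.add_mod]
    rw [e11P, e11P, e11P, Nat.xor_div_two, ih (fun x hx => h2 x (.tail _ hx))
      (fun x hx y hy => hc x (.tail _ hx) y (.tail _ hy)), e1]
    rcases Nat.mod_two_eq_zero_or_one b with e | e <;> rcases Nat.mod_two_eq_zero_or_one b' with e' | e' <;>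
      simp only [e, e'] <;> norm_num
    · rw [← mul_assoc, ← k.eq, mul_assoc]
    · rw [mul_assoc]
    · rw [mul_assoc, ← mul_assoc (e11P φ gs _) (φ g), k.eq, ← mul_assoc, ← mul_assoc, h2 g (.head _), one_mul]

theorem e11_gen {gs : List ℕ} {x : ℕ} (hx : x ∈ gs) : ∃ b, e11P φ gs b = φ x := by
  induction gs with
  | nil => cases hx
  | cons g gs ih =>
    rcases List.mem_cons.1 hx with rfl | hx
    · exact ⟨1, by rw [e11P]; simp [e11_zero]⟩
    · obtain ⟨b, hb⟩ := ih hx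
      exact ⟨2 * b, by rw [e11P]; simp [hb]⟩

theorem e11_mem {gs : List ℕ} (h2 : ∀ x ∈ gs, φ x * φ x = 1) (hc : ∀ x ∈ gs, ∀ y ∈ gs, Commute (φ x) (φ y))
    {g : G} (hg : g ∈ gp φ gs) : ∃ b, e11P φ gs b = g := by
  induction hg using closure_induction with
  | mem x hx =>
    obtain ⟨y, hy, rfl⟩ := hx
    exact e11_gen hy
  | one => exact ⟨0, e11_zero gs⟩
  | mul x y _ _ hx hy =>
    obtain ⟨b, rfl⟩ := hx
    obtain ⟨b', rfl⟩ := hy
    exact ⟨b ^^^ b', e11_xor h2 hc b b'⟩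
  | inv x _ hx =>
    obtain ⟨b, rfl⟩ := hx
    refine ⟨b, eq_inv_of_mul_eq_one_left ?_⟩
    rw [← e11_xor h2 hc, Nat.xor_self, e11_zero]

theorem e11_mkM_cons (m : ℕ → ℕ → ℕ) (g : ℕ) (gs : List ℕ) (x acc : ℕ) :
    mkM m (g :: gs) x acc = mkM m gs (m x g) (mkM m gs x acc) := by
  change frc (mkM m gs x acc) (fun acc' => frc (m x g) fun x' => mkM m gs x' acc') = _
  rw [frc_eq, frc_eq]

theorem e11_mono (m : ℕ → ℕ → ℕ) (gs : List ℕ) (y : ℕ) :
    ∀ x acc, acc.testBit y = true → (mkM m gs x acc).testBit y = true := by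
  induction gs with
  | nil => intro x acc h; exact (e8_bit _ _ _).2 (.inl h)
  | cons g gs ih => intro x acc h; rw [e11_mkM_cons]; exact ih _ _ (ih _ _ h)

theorem e11_full (m : ℕ → ℕ → ℕ) (gs : List ℕ) :
    ∀ b x acc, (mkM m gs x acc).testBit (evA m gs b x) = true := by
  induction gs with
  | nil => intro b x acc; exact (e8_bit _ _ _).2 (.inr rfl)
  | cons g gs ih =>
    intro b x acc
    rw [e11_mkM_cons, evA_cons]
    split_ifs
    · exact e11_mono m gs _ _ _ (ih _ _ _)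
    · exact ih _ _ _

theorem e11_commutator [Finite G] {gs : List ℕ} {W : Subgroup G} (hc : ∀ w ∈ W, ∀ x ∈ gp φ gs, Commute w x)
    (h : ∀ x ∈ gs, ∀ y ∈ gs, ⁅φ x, φ y⁆ ∈ W) : ⁅gp φ gs, gp φ gs⁆ ≤ W := by
  have key : ∀ y ∈ gp φ gs, (∀ x ∈ gs, ⁅φ x, y⁆ ∈ W) → ∀ x ∈ gp φ gs, ⁅x, y⁆ ∈ W := by
    intro y _ h1 x hx
    induction hx using closure_induction with
    | mem x hx => obtain ⟨z, hz, rfl⟩ := hx; exact h1 z hz
    | one => rw [commutatorElement_one_left]; exact one_mem W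
    | mul x x' hx _ k k' =>
      have : ⁅x * x', y⁆ = x * ⁅x', y⁆ * x⁻¹ * ⁅x, y⁆ := by simp only [commutatorElement_def]; group
      rw [this, ← (hc _ k' x hx).eq, mul_inv_cancel_right]
      exact mul_mem k' k
    | inv x hx k =>
      have : ⁅x⁻¹, y⁆ = x⁻¹ * ⁅x, y⁆⁻¹ * x := by simp only [commutatorElement_def]; group
      rw [this, mul_assoc, (hc _ (inv_mem k) x hx).eq, inv_mul_cancel_left]
      exact inv_mem k
  refine commutator_le.2 fun x hx y hy => key y hy (fun z hz => ?_) x hx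
  rw [← commutatorElement_inv]
  exact inv_mem (key _ (ex_gp hz) (fun t ht => h t ht z hz) y hy)

end

theorem AuxS.jn {x f : ℕ} {es : List (List ℕ)} {fs : List ℕ} {ws bad : List (ℕ × ℕ × ℕ)} {ps : List (ℕ × ℕ)}
    (h : AuxS.{u} c s x a) (e : jB s a f es fs ws bad ps = true) : AuxS.{u} c s x (a.setNe f) := by
  intro G _ _ F φ v hy
  have h := h G F φ v hy
  refine ⟨h.n, h.k, h.iv, h.cls, h.rp, h.r1, h.cc, h.mt, h.cn, h.cl, h.kt, h.ds, h.lam, h.nf, ?_⟩
  change ∀ i < a.nc, ∀ j < a.nc, tb f (i * a.nc + j) = true → ¬ Emb a.n φ (lk a.rp i) (lk a.rp j)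
  intro i hi j hj ht ⟨g, hg, hg'⟩
  simp only [jB, an_iff, orr_iff, ne_iff, lt_iff, allL_iff, anyL_iff, allN_iff, frc_eq, Nat.beq_eq, len_eq,
    memL_iff, mapK_eq, List.map_id, ex_not] at e
  obtain ⟨b1, b2, b3, b4, b5, b6, b7, rfl⟩ := e
  rw [tb_eq] at ht
  rcases e8_fold (P := fun (q : ℕ × ℕ) k => k = Nat.add (Nat.mul q.1 a.nc) q.2)
    (fun f q k => (e8_bit _ _ _).1) ps _ _ ht with ht | ⟨q, hq, e⟩
  · exact h.ne i hi j hj (by rw [tb_eq]; exact ht) ⟨g, hg, hg'⟩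
  obtain ⟨-, p2, p3, p4⟩ := b7 q hq
  obtain ⟨rfl, rfl⟩ := e8_pair hj p2 e
  have R := v.rep
  have hu := (h.rp _ hi).1
  have hv := (h.rp _ hj).1
  have hfs : ∀ x ∈ fs, x < sz s.lv := fun x hx => h.n ▸ (b1 x hx).1
  have inF : ∀ y, tb (mkM (mul s.lv) fs 0 0) y = true → φ y ∈ gp φ fs := fun y hy => (ex_mkM R hfs hy).2
  have cF : ∀ y ∈ gp φ fs, Commute (φ (lk a.rp q.1)) y := fun y hy =>
    ex_comm (fun x hx => (h.ex_com v hu (b1 x hx).1).1 (p3 x hx)) hy
  have sq : ∀ y < a.n, mul s.lv y y = 0 ↔ φ y * φ y = 1 := fun y hy => by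
    rw [← (h.ex_mul v hy hy).2, R.eq_one (h.n ▸ (h.ex_mul v hy hy).1)]
  -- the subgroups of type `2 ^ 6` are mapped into `F`
  have stepA : ∀ E ∈ es, ∀ t ∈ E, g * φ t * g⁻¹ ∈ gp φ fs := by
    intro E hE t ht
    obtain ⟨-, c2, c3⟩ := b2 E hE
    have hE' : ∀ x ∈ E, x < sz s.lv := fun x hx => h.n ▸ (c2 x hx).1
    have E2 : ∀ x ∈ E, φ x * φ x = 1 := fun x hx => (sq x (c2 x hx).1).1 (c2 x hx).2.2.1
    have Ec : ∀ x ∈ E, ∀ y ∈ E, Commute (φ x) (φ y) := fun x hx y hy =>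
      (h.ex_com v (c2 x hx).1 (c2 y hy).1).1 ((c2 x hx).2.2.2 y hy)
    have EF : gp φ E ≤ gp φ fs := ex_gp_le fun x hx => inF x (c2 x hx).2.1
    obtain ⟨y, hy1, hy2⟩ := hg' t (c2 t ht).1 (cF _ (EF (ex_gp ht))).symm
    by_cases t1 : φ t = 1
    · rw [t1, mul_one, mul_inv_cancel]; exact one_mem _
    rw [hy2]
    refine inF y (((b3 y hy1).resolve_right ?_))
    obtain ⟨k1, k2, k3⟩ := h.cls y hy1
    have o2 : orderOf (φ (lk a.rp (lk a.ci y))) = 2 := by
      rw [← k3, ← hy2, orderOf_conj_eq, orderOf_conj_eq]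
      exact orderOf_two_of_mul_self (E2 t ht) t1
    rintro (e | ⟨r, hr, e⟩)
    · refine e (Nat.pow_right_injective (le_refl 2) ?_)
      beta_reduce
      rw [← (h.rp _ k1).2.2, o2, pow_one]
    obtain ⟨-, d2, d3⟩ := b4 r hr
    rw [e] at d2 d3
    have ex : ∀ b : ℕ, ∃ z, z ∈ (a.cli (lk a.ci y)).filter (fun y => Nat.beq (mul s.lv y y) 0) ∧ z < a.n ∧
        φ z = φ (lk a.cp y) * g * e11P φ E b * (φ (lk a.cp y) * g)⁻¹ := fun b => by
      have m1 := ev_lt R.wf hE' b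
      obtain ⟨z, z1, z2⟩ := hg' _ (h.n ▸ m1) (cF _ (EF (R.ev_mem hE' b))).symm
      rw [e11_ev R hE'] at z2
      obtain ⟨z3, z4⟩ := h.cj v k2 z1
      have z5 : φ (L3E.cj s.lv a (lk a.cp y) z) =
          φ (lk a.cp y) * g * e11P φ E b * (φ (lk a.cp y) * g)⁻¹ := by rw [z4, ← z2]; group
      refine ⟨_, List.mem_filter.2 ⟨(h.cl _ k1 d2 _).2 ⟨z3, ?_⟩, Nat.beq_eq ▸ (sq _ z3).2 ?_⟩, z3, z5⟩
      · have : φ (lk a.rp (lk a.ci y)) = φ (lk a.cp y) * g * φ t * (φ (lk a.cp y) * g)⁻¹ := by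
          rw [← k3, ← hy2]; group
        rw [z5, this]
        exact (e11_comm (fun x hx => Ec x hx t ht) b).map (MulAut.conj (φ (lk a.cp y) * g))
      · rw [z5, conj_mul, ← e11_xor E2 Ec, Nat.xor_self, e11_zero, mul_one, mul_inv_cancel]
    choose z z1 z2 z3 using ex
    generalize (a.cli (lk a.ci y)).filter (fun y => Nat.beq (mul s.lv y y) 0) = L at d3 z1
    have inj : Set.InjOn z (Finset.range 64) := fun b hb b' hb' e => by
      have m1 : e11P φ E b = e11P φ E b' := by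
        have := (z3 b).symm.trans (e ▸ z3 b' : φ (z b) = _)
        exact mul_left_cancel (mul_right_cancel this)
      have m2 : b ^^^ b' < 64 := Nat.xor_lt_two_pow (n := 6) (by simpa using hb) (by simpa using hb')
      refine Nat.eq_of_xor_eq_zero ((c3 _ m2).resolve_right fun m3 => m3 ?_)
      rw [← R.eq_one (ev_lt R.wf hE' _), e11_ev R hE', e11_xor E2 Ec, m1, ← e11_xor E2 Ec, Nat.xor_self,
        e11_zero]
    have sub : (Finset.range 64).image z ⊆ L.toFinset := fun w hw => by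
      obtain ⟨b, -, rfl⟩ := Finset.mem_image.1 hw
      exact List.mem_toFinset.2 (z1 b)
    have cd : ((Finset.range 64).image z).card = 64 := by
      rw [Finset.card_image_of_injOn inj, Finset.card_range]
    have le := L.toFinset_card_le
    have ge := Finset.card_le_card sub
    obtain ⟨d4, d5, d6, d7⟩ := d3.resolve_left (by omega)
    have eq := Finset.eq_of_subset_of_card_le sub (by omega)
    obtain ⟨b, -, e1⟩ := Finset.mem_image.1 (eq ▸ List.mem_toFinset.2 d5 : r.2.1 ∈ (Finset.range 64).image z)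
    obtain ⟨b', -, e2⟩ := Finset.mem_image.1 (eq ▸ List.mem_toFinset.2 d6 : r.2.2 ∈ (Finset.range 64).image z)
    refine d7 ?_
    rw [← e1, ← e2, h.ex_com v (z2 b) (z2 b'), z3, z3]
    exact (e11_comm (fun x hx => (e11_comm (fun y hy => Ec y hy x hx) b').symm) b).map
      (MulAut.conj (φ (lk a.cp y) * g))
  have hn : g ∈ normalizer (gp φ fs : Set G) := ex_norm fun x hx => by
    obtain ⟨E, hE, hx'⟩ := (b1 x hx).2
    exact stepA E hE x hx'
  -- the commutator subgroup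
  have cm : ∀ x < a.n, ∀ y < a.n, mul s.lv (L3E.cj s.lv a x y) (lk a.iv y) < a.n ∧
      φ (mul s.lv (L3E.cj s.lv a x y) (lk a.iv y)) = ⁅φ x, φ y⁆ := fun x hx y hy => by
    obtain ⟨k1, k2⟩ := h.cj v hx hy
    obtain ⟨k3, k4⟩ := h.ex_mul v k1 (h.iv y hy).1
    exact ⟨k3, by rw [k4, k2, (h.iv y hy).2, commutatorElement_def]⟩
  have w1 : ∀ w ∈ ws.map Prod.fst, w < a.n ∧ φ w ∈ ⁅gp φ fs, gp φ fs⁆ ∧ φ w * φ w = 1 ∧
      ∀ y ∈ gp φ fs, Commute (φ w) y := fun w hw => by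
    obtain ⟨r, hr, rfl⟩ := List.mem_map.1 hw
    obtain ⟨k1, k2, k3, k4, k5, k6, k7⟩ := b5 r hr
    obtain ⟨k8, k9⟩ := cm _ k1 _ k2
    rw [← k5] at k8 k9
    exact ⟨k8, k9 ▸ commutator_mem_commutator (inF _ k3) (inF _ k4), (sq _ k8).1 k6, fun y hy =>
      ex_comm (fun x hx => (h.ex_com v k8 (b1 x hx).1).1 (k7 x hx)) hy⟩
  generalize ws.map Prod.fst = gs at w1 b6 p4
  have hgs : ∀ x ∈ gs, x < sz s.lv := fun x hx => h.n ▸ (w1 x hx).1
  have hW : gp φ gs = ⁅gp φ fs, gp φ fs⁆ := by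
    refine le_antisymm (ex_gp_le fun x hx => (w1 x hx).2.1) (e11_commutator (fun w hw y hy => ?_)
      fun x hx y hy => ?_)
    · exact (ex_comm (fun x hx => ((w1 x hx).2.2.2 y hy).symm) hw).symm
    · rw [← (cm x (b1 x hx).1 y (b1 y hy).1).2]
      exact (ex_mkM R hgs (b6 x hx y hy)).2
  have hFF : ⁅gp φ fs, gp φ fs⁆ ≤ gp φ fs := commutator_le.2 fun x hx y hy =>
    mul_mem (mul_mem (mul_mem hx hy) (inv_mem hx)) (inv_mem hy)
  have memW : ∀ y < a.n, tb (mkM (mul s.lv) gs 0 0) y = true ↔ φ y ∈ gp φ gs := fun y hy => by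
    refine ⟨fun e => (ex_mkM R hgs e).2, fun e => ?_⟩
    obtain ⟨b, hb⟩ := e11_mem (fun x hx => (w1 x hx).2.2.1) (fun x hx y hy => (w1 x hx).2.2.2 _
      (hFF (w1 y hy).2.1)) e
    rw [← e11_ev R hgs] at hb
    rw [← R.inj _ (ev_lt R.wf hgs b) _ (h.n ▸ hy) hb, tb_eq, ev_eq]
    exact e11_full _ _ _ _ _
  have iff : φ (lk a.rp q.2) ∈ gp φ gs ↔ φ (lk a.rp q.1) ∈ gp φ gs := by
    have : Tech.cj g (gp φ gs) = gp φ gs := by
      rw [hW, cj_commutator, mem_normalizer_iff_cj.1 hn]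
    rw [← hg]
    nth_rw 1 [← this]
    exact conj_mem_cj
  rw [← memW _ hu, ← memW _ hv] at iff
  rw [cnd_eq] at p4
  split_ifs at p4 with e1
  · exact ex_not.1 p4 (iff.2 e1)
  · exact e1 (iff.1 p4)

end CfsgLib.L3E
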