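import Cfsg.Agent.Lib.L3E.Eng2
import Cfsg.Agent.Lib.L3E.E4
import Cfsg.Agent.Lib.L3E.E8

/-! E12: counting arguments (plans/DIH8.md, part II) -/

set_option autoImplicit false

namespace CfsgLib.L3E

open Subgroup CfsgLib.Tech CfsgLib.MOrb Cfsg

universe u

variable {c : Cfg} {s s' : St} {a : Aux}

theorem e12_inc {l : Lv} {n v b : ℕ} {L : List ℕ} (h : incB l n v L b = true) :
    L.Nodup ∧ ∀ y ∈ L, b ≤ y ∧ y < n ∧ com l y v = true := by
  induction L generalizing b with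
  | nil => simp
  | cons y L ih =>
    change an _ (an _ (an _ (incB l n v L (y + 1)))) = true at h
    rw [an_iff, an_iff, an_iff, lt_iff, Nat.ble_eq] at h
    obtain ⟨h1, h2⟩ := ih h.2.2.2
    refine ⟨List.nodup_cons.2 ⟨fun hy => absurd (h2 y hy).1 (by omega), h1⟩, fun z hz => ?_⟩
    rcases List.mem_cons.1 hz with rfl | hz
    · exact ⟨h.1, h.2.1, h.2.2.1⟩
    · exact ⟨by have := (h2 z hz).1; omega, (h2 z hz).2⟩

theorem e12_cnt {L : List ℕ} {p : ℕ → Bool} {b : ℕ} (h : cntB L p b = true) : (L.filter p).length < b := by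
  induction L generalizing b with
  | nil => exact Nat.pos_of_ne_zero (ne_iff.1 h)
  | cons y L ih =>
    change cnd (p y) (Nat.rec (motive := fun _ => Bool) false (fun b' _ => cntB L p b') b) (cntB L p b) = true at h
    rw [cnd_eq] at h
    split_ifs at h with hp
    · rw [List.filter_cons_of_pos hp, List.length_cons]
      cases b with
      | zero => exact absurd h (by simp)
      | succ b => exact Nat.succ_lt_succ (ih h)
    · rw [List.filter_cons_of_neg hp]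
      exact ih h

theorem e12_msk {m M k : ℕ} {p : ℕ → Bool} (h : mskB m M p = true) (hk : k < m) (hp : ¬ p k = true) :
    ¬ tb M k = true := fun e => by
  rw [mskB, orr_iff, Nat.beq_eq, allN_iff] at h
  rcases h with rfl | h
  · simp [tb_eq] at e
  · have := h k hk
    rw [e] at this
    exact hp this

section

variable {G : Type u} [Group G] [Finite G] {φ : ℕ → G}

theorem e12_core {md : ℕ} {F : Fr G md} (v : Valid F s φ) (h : AuxOk F s φ a) {q : Hc} {m : ℕ}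
    {p : ℕ → ℕ → Bool} (e : hsB s.lv a q m p = true) {l' : Lv} {ψ : ℕ → G} (h' : Rep l' ψ) {val : ℕ → ℕ}
    (hv : ∀ x < a.n, ∀ y < sz l', IsConj (φ x) (ψ y) → val y < m ∧ ¬ p (lk a.ci x) (val y) = true)
    {g : G} {t : ℕ} (ht : t < sz l') (hg : g * φ (lk a.rp q.i) * g⁻¹ = ψ t) {L : List ℕ}
    (hL : ∀ x < a.n, Commute (φ x) (φ (lk a.rp q.i)) → ∃ y ∈ L, y < sz l' ∧ g * φ x * g⁻¹ = ψ y)
    {c2 c3 : ℕ → ℕ} (h2 : q.f2 = true → ∀ y, c2 y = val (mul l' t y))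
    (h3 : q.f3 = true → ∀ y, c3 y = val (mul l' y y))
    (b : cntB L (fun y => opn q (val y) (c2 y) (c3 y)) (len q.w) = true) : False := by
  simp only [hsB, frc_eq, an_iff, lt_iff, allL_iff, anyL_iff, Nat.beq_eq] at e
  obtain ⟨hi, e1, e2, e3⟩ := e
  obtain ⟨e4, e5⟩ := e12_inc e1
  have hu := (h.rp _ hi).1
  have k : ∀ x, ∃ y, x ∈ q.w → y ∈ L ∧ y < sz l' ∧ g * φ x * g⁻¹ = ψ y := fun x => by
    by_cases hx : x ∈ q.w
    · obtain ⟨y, hy⟩ := hL x (e5 x hx).2.1 ((h.ex_com v (e5 x hx).2.1 hu).1 (e5 x hx).2.2)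
      exact ⟨y, fun _ => hy⟩
    · exact ⟨0, fun e => absurd e hx⟩
  choose f hf using k
  have n1 : (q.w.map f).Nodup := e4.map_on fun x hx y hy e => h.ex_inj v (e5 x hx).2.1 (e5 y hy).2.1 <| by
    have := (hf x hx).2.2.trans (e ▸ (hf y hy).2.2.symm)
    simpa using this
  have n2 : q.w.map f ⊆ L.filter fun y => opn q (val y) (c2 y) (c3 y) := fun y hy => by
    obtain ⟨x, hx, rfl⟩ := List.mem_map.1 hy
    obtain ⟨f1, f2, f3⟩ := hf x hx
    obtain ⟨r, hr, r1, r2, r3⟩ := e2 x hx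
    obtain ⟨m1, m2, m3⟩ := e3 r hr
    have hx' := (e5 x hx).2.1
    refine List.mem_filter.2 ⟨f1, anyL_iff.2 ⟨r, hr, ?_⟩⟩
    have t1 := hv x hx' _ f2 (isConj_iff.2 ⟨g, f3⟩)
    have t2 := hv _ (h.ex_mul v hu hx').1 _ (h'.wf.lt ht f2) (isConj_iff.2 ⟨g, by
      rw [(h.ex_mul v hu hx').2, h'.map _ ht _ f2, ← hg, ← f3]; group⟩)
    have t3 := hv _ (h.ex_mul v hx' hx').1 _ (h'.wf.lt f2 f2) (isConj_iff.2 ⟨g, by
      rw [(h.ex_mul v hx' hx').2, h'.map _ f2 _ f2, ← f3]; group⟩)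
    simp only [cnd_eq]
    rw [if_neg (e12_msk m1 t1.1 (r1 ▸ t1.2)), if_neg, if_neg]
    · rw [an_iff]
      rintro ⟨k1, k2⟩
      rw [k1] at r3
      exact e12_msk m3 t3.1 (r3 ▸ t3.2) (h3 k1 _ ▸ k2)
    · rw [an_iff]
      rintro ⟨k1, k2⟩
      rw [k1] at r2
      exact e12_msk m2 t2.1 (r2 ▸ t2.2) (h2 k1 _ ▸ k2)
  have n3 := (List.subperm_of_subset n1 n2).length_le
  have n4 := e12_cnt b
  rw [List.length_map] at n3
  rw [len_eq] at n4
  omega

theorem e12_ht {F : Cf G c} (v : Valid F.toFr s φ) (h : AuxOk F.toFr s φ a) {q : Hc}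
    (e : htB c s a q = true) : q.i < a.nc ∧ ¬ F.toFr.D (φ (lk a.rp q.i)) := by
  simp only [htB, frc_eq, an_iff, mapK_eq, List.map_id] at e
  refine ⟨?_, fun hD => ?_⟩
  · have := e.1
    rw [hsB, frc_eq, an_iff, lt_iff] at this
    exact this.1
  obtain ⟨g, g1, g2⟩ := F.toFr.emb hD (R := img s.lv φ ⊓ centralizer {φ (lk a.rp q.i)})
    v.rep.isPGroup.to_inf_left fun r hr => mem_centralizer_singleton_iff.1 hr.2
  refine e12_core v h e.1 F.rep (val := fun y => y) (fun x hx y hy hc => ⟨hy, fun e => ?_⟩)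
    (Fr.lt (by norm_num)) g1 (fun x hx hc => ?_) (fun _ _ => rfl) (fun _ _ => rfl) e.2
  · exact h.clashT (h.rp _ (h.cls x hx).1).1 hy e ((h.isConj_rp hx).symm.trans hc)
  · obtain ⟨y, hy, e4⟩ := g2 _ ⟨h.ex_mem' v hx, mem_centralizer_singleton_iff.2 hc⟩
    exact ⟨y, List.mem_range.2 hy, hy, e4⟩

end

theorem AuxS.hp {x f : ℕ} {cs : List Hc} (h : AuxS.{u} c s x a) (b : hpB s a f cs = true) :
    AuxS.{u} c s x (a.setNe f) := by
  intro G _ _ F φ v hy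
  have h := h G F φ v hy
  refine ⟨h.n, h.k, h.iv, h.cls, h.rp, h.r1, h.cc, h.mt, h.cn, h.cl, h.kt, h.ds, h.lam, h.nf, ?_⟩
  change ∀ i < a.nc, ∀ j < a.nc, tb f (i * a.nc + j) = true → ¬ Emb a.n φ (lk a.rp i) (lk a.rp j)
  intro i hi j hj ht ⟨g, hg, hg'⟩
  simp only [hpB, an_iff, ne_iff, lt_iff, allL_iff, frc_eq, Nat.beq_eq] at b
  obtain ⟨b1, rfl⟩ := b
  rw [tb_eq] at ht
  rcases e8_fold (P := fun (q : Hc) k => ∃ j ∈ q.js, k = Nat.add (Nat.mul q.i a.nc) j)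
    (fun f q k => e8_fold (P := fun j k => k = Nat.add (Nat.mul q.i a.nc) j) (fun f j k => (e8_bit _ _ _).1) _ f k)
    cs _ _ ht with ht | ⟨q, hq, j', hj', e⟩
  · exact h.ne i hi j hj (by rw [tb_eq]; exact ht) ⟨g, hg, hg'⟩
  obtain ⟨b2, b4⟩ := b1 q hq
  obtain ⟨b5, b6, b7⟩ := b4 j' hj'
  obtain ⟨rfl, rfl⟩ := e8_pair hj b5 e
  refine e12_core v h b2 v.rep (val := lk a.ci) (fun x hx y hy hc => ?_) (h.n ▸ (h.rp _ hj).1) hg
    (fun x hx hc => ?_) (fun e y => by rw [e]; rfl) (fun e y => by rw [e]; rfl) b7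
  · rw [← h.n] at hy
    exact ⟨(h.cls y hy).1, fun e => h.nfT (h.cls x hx).1 (h.cls y hy).1 e
      (((h.isConj_rp hx).symm.trans hc).trans (h.isConj_rp hy))⟩
  · obtain ⟨y, h6, h7⟩ := hg' _ hx hc
    refine ⟨y, (h.cl _ hj b6 y).2 ⟨h6, ?_⟩, h.n ▸ h6, h7⟩
    rw [← h7, ← hg]
    exact hc.map (MulAut.conj g)

theorem AuxS.up2 {x d : ℕ} {qs : List Hc} (h : AuxS.{u} c s x a) (e : up2B c s a d qs = true) :
    AuxS.{u} c s x (a.setDs d) := by
  intro G _ _ F φ v hy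
  have h := h G F φ v hy
  simp only [up2B, an_iff, allL_iff, allN_iff, frc_eq, orr_iff, anyL_iff, Nat.beq_eq] at e
  refine { h with ds := fun i hi => ?_ }
  change (lk d i = 1 → ¬ F.toFr.D (φ (lk a.rp i))) ∧ (lk d i = 2 → F.toFr.D (φ (lk a.rp i)))
  rcases e.2 i hi with e1 | ⟨e1, q, hq, rfl⟩
  · rw [e1]; exact h.ds i hi
  · exact ⟨fun _ => (e12_ht v h (e.1 q hq)).2, fun e => absurd (e1.symm.trans e) (by norm_num)⟩

theorem AuxS.k7 {x : ℕ} {q : Hc} (h : AuxS.{u} c s x a) (e : k7B c s a q = true) : Sound.{u} c s x := by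
  intro G _ _ F φ v hy
  have h := h G F φ v hy
  rw [k7B, an_iff, Nat.beq_eq] at e
  obtain ⟨h1, h2⟩ := e12_ht v h e.2
  exact absurd ((h.ds _ h1).2 e.1) h2

end CfsgLib.L3E
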