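import Cfsg.Agent.Lib.L3E.E5
import Cfsg.Agent.Lib.L3E.Orb
import Cfsg.Agent.Lib.L3E.E4a

/-! E6: extension by an element of a normaliser (plans/DIH8.md, part II) -/

set_option autoImplicit false

namespace CfsgLib.L3E

open Subgroup CfsgLib.Tech CfsgLib.MOrb Cfsg

universe u

variable {G : Type u} [Group G] [Finite G] {md : ℕ} {F : Fr G md} {c : Cfg} {s s' : St} {φ ψ : ℕ → G} {a : Aux} {l l' : Lv}

private theorem e6_md (h : md ≠ 0) : sz (lvT md) = 64 ∧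
    ∀ a < 32, lk rhoT a < 32 ∧ mul (lvT md) 32 a = mul (lvT md) (lk rhoT a) 32 :=
  match md, h with
  | 1, _ => by decide +kernel
  | _ + 2, _ => (by decide +kernel : sz (lvT 2) = 64 ∧
      ∀ a < 32, lk rhoT a < 32 ∧ mul (lvT 2) 32 a = mul (lvT 2) (lk rhoT a) 32)

/-- an element of `C(t)` extending `T₁` to a 2-group acts on `T₁` as `a ρ` -/
private theorem e6_rho (F : Fr G md) {r : G} (hr : Commute r (F.j 1)) (hn : r ∉ F.X 3)
    (h2 : IsPGroup 2 ↥(F.X 3 ⊔ zpowers r)) :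
    md ≠ 0 ∧ ∃ a < 32, ∀ u < 32, (F.j a)⁻¹ * r * F.j u * ((F.j a)⁻¹ * r)⁻¹ = F.j (lk rhoT u) := by
  obtain ⟨h0, c, c1, a, ha, c2⟩ := F.rho hr hn h2
  obtain ⟨m1, m2⟩ := e6_md h0
  refine ⟨h0, a, ha, fun u hu => ?_⟩
  have e1 := F.conj_of (by omega) (Fr.lt hu) (Fr.lt (m2 u hu).1) (m2 u hu).2
  calc _ = c⁻¹ * ((c * F.j a * c⁻¹)⁻¹ * (c * r * c⁻¹) * (c * F.j u * c⁻¹) *
        ((c * F.j a * c⁻¹)⁻¹ * (c * r * c⁻¹))⁻¹) * c := by group
    _ = c⁻¹ * (c * F.j (lk rhoT u) * c⁻¹) * c := by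
      rw [c1 a ha, c2, c1 u hu, inv_mul_cancel_left, e1, c1 _ (m2 u hu).1]
    _ = _ := by group

private theorem e6_nX (F : Fr G md) {h : ℕ} (hh : h = 1 ∨ h = 2) {r : G} (hr : Commute r (F.j 1)) (hn : r ∉ F.X 3)
    (h2 : IsPGroup 2 ↥(F.X 3 ⊔ zpowers r)) : r ∉ normalizer (F.X h : Set G) := fun hN => by
  obtain ⟨-, a, ha, e⟩ := e6_rho F hr hn h2
  have := conj_mem_of_mem_normalizer (mul_mem (inv_mem (F.norm_X hh (F.mem_X3.2 ⟨a, ha, rfl⟩))) hN)
    (F.j_mem hh (a := 8 * h) (by simp))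
  rw [e _ (by omega)] at this
  obtain ⟨b, hb, e'⟩ := (F.mem_X hh).1 this
  have k : ∀ h ∈ [1, 2], lk rhoT (8 * h) < 32 ∧ ¬ xb h (lk rhoT (8 * h)) := by decide +kernel
  obtain ⟨k1, k2⟩ := k h (by simpa using hh)
  exact k2 (F.rep.inj _ (Fr.lt hb.1) _ (Fr.lt k1) e' ▸ hb)

private theorem e6_two {H K : Subgroup G} (h : H ≤ K) {x : G} (hx : x ∈ K) (hn : x ∉ H) :
    2 * Nat.card H ≤ Nat.card K := by
  have h1 : H.relIndex K ≠ 1 := fun e => hn (relIndex_eq_one.1 e hx)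
  have h2 : H.relIndex K ≠ 0 := index_ne_zero_of_finite
  rw [← card_mul_relIndex' h, mul_comm]
  exact Nat.mul_le_mul_left _ (by omega)

/-- the orbit of `t` under `N(A) ∩ N(T₁)` is the part of its orbit under `N(A)` inside `Z(T₁)` -/
theorem Fr.notSyl4 (F : Fr G md) {ob e : ℕ} (ho : F.Orb 1 ob)
    (he : ((List.range 32).filter (Nat.land ob 255).testBit).length = 2 ^ e) {P : Subgroup G} (hP : IsPGroup 2 P)
    (hN : P ≤ normalizer (F.X 1 : Set G)) (hN' : P ≤ normalizer (F.X 3 : Set G)) (hc : Nat.card P < 32 * 2 ^ e) :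
    ∃ f ∈ normalizer (F.X 1 : Set G), f ∈ normalizer (F.X 3 : Set G) ∧ f ∈ normalizer (P : Set G) ∧ f ∉ P ∧
      f * f ∈ P := by

  suffices h : ∃ f ∈ normalizer (F.X 1 : Set G) ⊓ normalizer (F.X 3 : Set G), f ∈ normalizer (P : Set G) ∧ f ∉ P ∧
      f * f ∈ P from let ⟨f, h1, h2⟩ := h; ⟨f, h1.1, h1.2, h2⟩
  refine exists_ext_in hP (le_inf hN hN') fun hS => hc.not_ge ?_
  have T1 : F.X 3 ≤ centralizer {F.j 1} := F.X3_le.trans F.syl.le
  have syl : IsSylowIn 2 (F.X 3) (normalizer (F.X 1 : Set G) ⊓ centralizer {F.j 1}) :=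
    isSylowIn_of_maximal (F.rep.isPGroup.to_le F.X3_le) (le_inf (F.norm_X (.inl rfl)) T1) fun R hR h1 h2 r hr =>
      by_contra fun hn => e6_nX F (.inl rfl) (mem_centralizer_singleton_iff.1 (h2 hr).2) hn
        (hR.to_le (sup_le h1 (zpowers_le.2 hr))) (h2 hr).1
  have bit : ∀ a, (Nat.land ob 255).testBit a = true ↔ ob.testBit a = true ∧ a < 8 := fun a => by
    change (ob &&& (2 ^ 8 - 1)).testBit a = true ↔ _
    rw [Nat.testBit_and, Nat.testBit_two_pow_sub_one, Bool.and_eq_true, decide_eq_true_iff]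
  have h1 := TL2.card_conj (normalizer (F.X 1 : Set G) ⊓ normalizer (F.X 3 : Set G)) (F.j 1)
  have h2 : {w | ∃ z ∈ normalizer (F.X 1 : Set G) ⊓ normalizer (F.X 3 : Set G), z * F.j 1 * z⁻¹ = w} =
      F.j '' ((List.range 32).filter (Nat.land ob 255).testBit).toFinset := by
    refine Set.ext fun w => ⟨fun ⟨z, hz, e⟩ => ?_, fun ⟨a, ha, e⟩ => ?_⟩
    · obtain ⟨a, ha, e'⟩ := F.orbT_lt ⟨z, hz.2, e⟩
      exact ⟨a, List.mem_toFinset.2 (List.mem_filter.2 ⟨List.mem_range.2 (by omega),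
        (bit a).2 ⟨(ho a).1 ⟨by omega, z, hz.1, e.trans e'.symm⟩, ha⟩⟩), e'⟩
    · obtain ⟨a1, a2⟩ := (bit a).1 (List.mem_filter.1 (List.mem_toFinset.1 ha)).2
      obtain ⟨-, n, hn, e1⟩ := (ho a).2 a1
      obtain ⟨c, hc, h3⟩ := syl.exists_cj_le (Q := Tech.cj n⁻¹ (F.X 3))
        (isPGroup_cj _ (F.rep.isPGroup.to_le F.X3_le)) (cj_le_iff.2 fun x hx => mem_inf.2 ⟨mul_mem (mul_mem (inv_mem hn)
          (F.norm_X (.inl rfl) hx)) (inv_mem (inv_mem hn)), mem_centralizer_singleton_iff.2 (by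
            obtain ⟨y, hy, rfl⟩ := F.mem_X3.1 hx
            have := (F.orb_cen a2 hy).eq
            calc _ = n⁻¹ * (F.j y * (n * F.j 1 * n⁻¹)) * n := by group
              _ = n⁻¹ * (n * F.j 1 * n⁻¹ * F.j y) * n := by rw [e1, this]
              _ = _ := by group)⟩)
      rw [← cj_mul] at h3
      refine ⟨(c * n⁻¹)⁻¹, inv_mem (mem_inf.2 ⟨mul_mem (mem_inf.1 hc).1 (inv_mem hn), mem_normalizer_of_cj_le h3⟩), ?_⟩
      have := mem_centralizer_singleton_iff.1 hc.2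
      calc _ = n * (c⁻¹ * (F.j 1 * c)) * n⁻¹ := by group
        _ = _ := by rw [← this, inv_mul_cancel_left, e1, e]
  rw [h2, Set.InjOn.ncard_image fun x hx y hy => F.rep.inj x (Fr.lt (by simp at hx; exact hx.1)) y
    (Fr.lt (by simp at hy; exact hy.1)), Set.ncard_coe_finset,
    List.toFinset_card_of_nodup (List.nodup_range.filter _), he] at h1
  have h3 : 2 ^ 5 ∣ Nat.card ↥(normalizer (F.X 1 : Set G) ⊓ normalizer (F.X 3 : Set G) ⊓ centralizer {F.j 1}) :=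
    F.card_X3.symm.dvd.trans (card_dvd_of_le (le_inf (le_inf (F.norm_X (.inl rfl)) le_normalizer) T1))
  rw [show 32 = 2 ^ 5 from rfl, mul_comm, ← pow_add]
  refine Nat.le_of_dvd Nat.card_pos ((Nat.Coprime.pow_left _
    ((Nat.Prime.coprime_iff_not_dvd Nat.prime_two).2 hS.not_dvd)).dvd_of_dvd_mul_right ?_)
  rw [card_mul_relIndex' (le_inf hN hN'), ← h1, pow_add]
  exact Nat.mul_dvd_mul_left _ h3

theorem AuxS.ext {x k e : ℕ} {lv : List Lvl} {gm : List ℕ} {ts ms : List St} {ct cm : List Lc} (h : AuxS.{u} c s x a)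
    (hx : k = 0 → x = 1) (hg : GamS.{u} c s gm) (ht : AllS.{u} c ts) (hm : AllS.{u} c ms)
    (b : extB c s a k e lv gm ts ms ct cm = true) : Sound.{u} c s x := by

  intro G _ _ F φ v hy
  have h := h G F φ v hy
  simp only [extB, mapK_eq, List.map_id, an_iff, Nat.ble_eq, all2_beq] at b
  obtain ⟨k4, e1, e2, e3, e4, e5, e6, e7, e8⟩ := b
  simp only [an_iff, orr_iff, Nat.beq_eq, allL_iff, anyL_iff, allN_iff, ne_iff, lt_iff, ex_not, memL_iff, frc_eq,
    Nat.pow_eq, Nat.mul_eq] at e3 e4 e7 e8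
  have h32 := h.ex_32 v
  have hP := v.rep.isPGroup
  have lp := h.ex_pows_lt le_rfl
  have kd : ∀ h' ∈ kinds k, h' = 1 ∨ h' = 2 ∨ h' = 3 := by
    interval_cases k <;> decide +kernel
  have PN : ∀ h' ∈ kinds k, img s.lv φ ≤ normalizer (F.toFr.X h' : Set G) := fun h' hh => by
    rw [← h.ex_pows v]
    refine ex_gp_le fun g hg => ?_
    have k0 : k ≠ 0 := by rintro rfl; exact absurd hh List.not_mem_nil
    rw [← v.ex_X (kd h' hh)]
    refine ex_norm fun y hy => ?_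
    have := (e4.resolve_left k0).2.2 h' hh g hg y hy
    rw [← (h.cj v (lp g hg) ((ex_xg (kd h' hh) y hy).1.trans_le h32)).2, v.ex_X (kd h' hh),
      v.base _ (ex_xm_lt this)]
    exact (F.toFr.ex_memX (kd h' hh)).2 ⟨_, this, rfl⟩
  obtain ⟨Good, hG⟩ : ∃ Good : G → Prop, ∀ f, Good f ↔ f ∈ normalizer (img s.lv φ : Set G) ∧ f ∉ img s.lv φ ∧
    f * f ∈ img s.lv φ ∧ ∀ h' ∈ kinds k, f ∈ normalizer (F.toFr.X h' : Set G) := ⟨_, fun _ => Iff.rfl⟩
  have gm' : ∀ p ∈ img s.lv φ, ∀ f, Good f → Good (p * f) := fun p hp f hf => by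
    obtain ⟨f1, f2, f3, f4⟩ := (hG f).1 hf
    refine (hG _).2 ⟨mul_mem (le_normalizer hp) f1, fun e => f2 ((mul_mem_cancel_left hp).1 e), ?_,
      fun h' hh => mul_mem (PN h' hh hp) (f4 h' hh)⟩
    have := mul_mem (mul_mem hp (conj_mem_of_mem_normalizer f1 hp)) f3
    convert this using 1; group
  have fin : ∀ f, Good f → ∀ (d : ℕ) (ys : List ℕ), (∀ y ∈ ys, y < a.n) → CJ φ φ f (1 :: (lv.take d).map Lvl.g) ys →
      dfsP s.lv a [] (fun ys => orr (leafM s a gm ms cm (pows a.k) ys) (leafT s a gm ts ct ys)) (lv.drop d) ys = true →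
      F.toFr.Out := fun f hf d ys y1 y2 y3 => by
    obtain ⟨f1, f2, f3, f4⟩ := (hG f).1 hf
    obtain ⟨zs, z1, z2, z3⟩ := dfsP_sound v h (g := f) (fun e he => by
        have he' := List.mem_of_mem_drop he
        obtain ⟨y, a1, a2⟩ := (h.ex_mem v).1 (conj_mem_of_mem_normalizer f1 (h.ex_mem' v (ex_lvB_lt e2 e he')))
        refine ⟨y, a1, a2.symm, fun h => absurd h (e3 e he').1, fun h0 => ?_⟩
        obtain ⟨h', hh, a3, a4⟩ := (e3 e he').2.resolve_left h0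
        obtain ⟨y', a5, a6⟩ := (F.toFr.ex_memX (kd h' hh)).1 (conj_mem_of_mem_normalizer (f4 h' hh)
          (v.ex_X (kd h' hh) ▸ ex_gp a3))
        rw [a4, h.ex_inj v a1 ((ex_xm_lt a5).trans_le h32) (by rw [a2, v.base _ (ex_xm_lt a5), a6])]
        exact a5)
      (fun y hy => lp y (by
        rw [← e1]
        exact List.cons_subset_cons _ (List.map_subset _ (List.take_subset d lv)) hy)) y1 y2 (ex_lvB_drop e2 d) y3
    rw [List.cons_append, ← List.map_append, List.take_append_drop, e1] at z2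
    rcases orr_iff.1 z3 with z3 | z3
    · exact leafM_sound v h hg hm e6 lp z1 z2 z3
    · exact leafT_sound v h hg ht e5 z1 z2 f2 f3 z3
  obtain ⟨f0, hf0⟩ : ∃ f, Good f := by
    rcases e4 with rfl | ⟨a1, a2, -⟩
    · obtain rfl := hx rfl
      obtain ⟨f, f1, f2, f3⟩ := exists_ext hP hy
      exact ⟨f, (hG f).2 ⟨f1, f2, f3, fun _ hh => absurd hh List.not_mem_nil⟩⟩
    rw [← h.ex_card v] at a2
    by_cases k0 : k = 0
    · subst k0
      obtain rfl := hx rfl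
      obtain ⟨f, f1, f2, f3⟩ := exists_ext hP hy
      exact ⟨f, (hG f).2 ⟨f1, f2, f3, fun _ hh => absurd hh List.not_mem_nil⟩⟩
    by_cases k4' : k = 4
    · subst k4'
      obtain ⟨f, f1, f2, f3, f4, f5⟩ := F.toFr.notSyl4 (F.orb 1 (.inl rfl)) a1 hP (PN 1 (by decide +kernel))
        (PN 3 (by decide +kernel)) a2
      exact ⟨f, (hG f).2 ⟨f3, f4, f5, fun h' hh => by
        rcases List.mem_pair.1 hh with rfl | rfl
        exacts [f1, f2]⟩⟩
    · have hk : k = 1 ∨ k = 2 ∨ k = 3 := by omega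
      have kk : kinds k = [k] ∧ orbm c k = c.ob k := by rcases hk with rfl | rfl | rfl <;> exact ⟨rfl, rfl⟩
      obtain ⟨f, f1, f3, f4, f5⟩ := F.toFr.notSyl hk (F.orb k hk) (kk.2 ▸ a1) hP (PN k (by simp [kk.1]))
        (by simpa only [cnd_eq, Nat.beq_eq] using a2)
      exact ⟨f, (hG f).2 ⟨f3, f4, f5, fun h' hh => by rw [kk.1] at hh; exact List.mem_singleton.1 hh ▸ f1⟩⟩
  have h1 : 1 < a.n := by omega
  obtain ⟨u0, u1, u2⟩ := (h.ex_mem v).1 (conj_mem_of_mem_normalizer ((hG _).1 hf0).1 (h.ex_mem' v h1))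
  obtain ⟨j1, j2, j3⟩ := h.cls u0 u1
  have hf := gm' _ (h.ex_mem' v j2) _ hf0
  have ft : φ (lk a.cp u0) * f0 * φ 1 * (φ (lk a.cp u0) * f0)⁻¹ = φ (lk a.rp (lk a.ci u0)) := by
    rw [← j3, u2]; group
  generalize φ (lk a.cp u0) * f0 = f at hf ft
  obtain ⟨f1, f2, f3, f4⟩ := (hG f).1 hf
  have ru := (h.rp _ j1).1
  rcases e7 _ j1 with e9 | e9 | ⟨k0, e9⟩ | e9
  · rw [e9, v.ex_one] at ft
    have c1 : Commute f (F.j 1) := mul_inv_eq_iff_eq_mul.1 ft
    have q1 : IsPGroup 2 ↥(img s.lv φ ⊔ zpowers f) := by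
      refine hP.to_sup_of_normal_left' ?_ (zpowers_le.2 f1)
      obtain ⟨i, hi⟩ := isPGroup_iff_mem.1 hP _ f3
      exact isPGroup_zpowers_of_pow (k := i + 1) (by rw [pow_succ', pow_mul, pow_two, hi])
    have n3 : f ∉ F.toFr.X 3 := fun e => f2 (v.ex_X3 e)
    have q2 : IsPGroup 2 ↥(F.toFr.X 3 ⊔ zpowers f) := q1.to_le (sup_le_sup_right v.ex_X3 _)
    obtain ⟨m0, p, hp, r1⟩ := e6_rho F.toFr c1 n3 q2
    rcases e8.resolve_left m0 with e10 | ⟨k0, k3⟩ | e10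
    · exfalso
      obtain ⟨-, t1, g, g1, g2⟩ := v.tm e10
      have m1 := (e6_md m0).1
      have T1 : F.toFr.X 3 ≤ centralizer {F.j 1} := F.toFr.X3_le.trans F.syl.le
      have a1 := e6_two (le_inf v.ex_X3 T1) (x := φ s.tm) ⟨h.ex_mem' v (h.n ▸ t1),
        mem_centralizer_singleton_iff.2 (by
          have := (F.toFr.T_comm (a := 32) (by omega)).eq
          rw [← g2, ← g1 1 (by norm_num)] at this
          calc _ = g⁻¹ * (g * φ s.tm * g⁻¹ * (g * F.j 1 * g⁻¹)) * g := by group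
            _ = _ := by rw [this]; group)⟩ fun e => by
        obtain ⟨y, hy, e⟩ := F.toFr.mem_X3.1 e
        have := F.rep.inj y (Fr.lt hy) 32 (by omega) (by rw [← g2, ← e, g1 y hy])
        omega
      have a2 := e6_two (inf_le_inf_right (centralizer {F.j 1}) (le_sup_left : img s.lv φ ≤ img s.lv φ ⊔ zpowers f))
        (x := f) ⟨mem_sup_right (mem_zpowers f), mem_centralizer_singleton_iff.2 c1⟩ fun e => f2 e.1
      have a3 := F.toFr.card_le (IsConj.refl _) (R := (img s.lv φ ⊔ zpowers f) ⊓ centralizer {F.j 1})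
        q1.to_inf_left fun r hr => mem_centralizer_singleton_iff.1 hr.2
      rw [F.toFr.card_X3] at a1
      omega
    · exfalso
      obtain rfl | rfl | rfl : k = 1 ∨ k = 2 ∨ k = 4 := by omega
      · exact e6_nX F.toFr (.inl rfl) c1 n3 q2 (f4 1 (by decide +kernel))
      · exact e6_nX F.toFr (.inr rfl) c1 n3 q2 (f4 2 (by decide +kernel))
      · exact e6_nX F.toFr (.inl rfl) c1 n3 q2 (f4 1 (by decide +kernel))
    · refine fin _ (gm' _ (inv_mem (v.ex_X3 (F.toFr.mem_X3.2 ⟨p, hp, rfl⟩))) _ hf) 4 _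
        (fun y hy => lt_of_lt_of_le (by simp at hy; omega) h32) ?_ e10
      have : 1 :: (lv.take 4).map Lvl.g = [1, 2, 4, 8, 16] := by
        have := congrArg (List.take 5) e1
        rw [List.take_succ_cons, ← List.map_take] at this
        rw [this, pows, ← List.map_take, List.take_range, min_eq_left (by rw [h.ex_k v]; omega)]
        rfl
      rw [this]
      have key : ∀ x y, x < 32 → y < 32 → lk rhoT x = y → (F.j p)⁻¹ * f * φ x * ((F.j p)⁻¹ * f)⁻¹ = φ y :=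
        fun x y hx hy e => by rw [v.base x hx, v.base y hy, r1 x hx, e]
      refine .cons ?_ (.cons ?_ (.cons ?_ (.cons ?_ (.cons ?_ .nil)))) <;>
        exact key _ _ (by norm_num) (by norm_num) (by decide +kernel)
  · refine absurd ⟨f, by rw [h.r1, ft], fun r hr _ => ?_⟩ (h.neT v (h.cls 1 h1).1 j1 e9)
    obtain ⟨r', a1, a2⟩ := (h.ex_mem v).1 (conj_mem_of_mem_normalizer f1 (h.ex_mem' v hr))
    exact ⟨r', a1, a2.symm⟩
  · refine absurd ?_ e9
    rw [v.ex_one] at ft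
    have key : ∀ h' ∈ kinds k, lk a.rp (lk a.ci u0) < 32 ∧ f * F.j 1 * f⁻¹ = F.j (lk a.rp (lk a.ci u0)) ∧
        (c.ob h').testBit (lk a.rp (lk a.ci u0)) = true := fun h' hh => by
      obtain ⟨y, y1, y2⟩ := (F.toFr.ex_memX (kd h' hh)).1 (conj_mem_of_mem_normalizer (f4 h' hh)
        ((F.toFr.ex_memX (kd h' hh)).2 ⟨1, by rcases kd h' hh with rfl | rfl | rfl <;> decide +kernel, rfl⟩))
      have y3 := ex_xm_lt y1
      rw [h.ex_inj v ru (y3.trans_le h32) (by rw [← ft, v.base y y3, y2])]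
      exact ⟨y3, y2.symm, (F.orb h' (kd h' hh) y).1 ⟨y3, f, f4 h' hh, y2.symm⟩⟩
    rw [tb_eq]
    by_cases k4' : k = 4
    · subst k4'
      obtain ⟨a1, a2, a3⟩ := key 1 (by decide +kernel)
      obtain ⟨y, y1, y2⟩ := F.toFr.orbT_lt ⟨f, f4 3 (by decide +kernel), a2⟩
      have y3 := F.rep.inj _ (Fr.lt (by omega)) _ (Fr.lt a1) y2
      change (c.oA &&& (2 ^ 8 - 1)).testBit _ = true
      rw [Nat.testBit_and, Nat.testBit_two_pow_sub_one, Bool.and_eq_true, decide_eq_true_iff]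
      exact ⟨a3, y3 ▸ y1⟩
    · have hk : k = 1 ∨ k = 2 ∨ k = 3 := by omega
      have kk : kinds k = [k] ∧ orbm c k = c.ob k := by rcases hk with rfl | rfl | rfl <;> exact ⟨rfl, rfl⟩
      rw [kk.2]
      exact (key k (by simp [kk.1])).2.2
  · exact fin f hf 0 _ (by simpa using ru) (.cons ft .nil) e9

end CfsgLib.L3E
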