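import Cfsg.Agent.Lib.L3E.Eng3
import Cfsg.Agent.Lib.L3E.E6

/-! E14: extension, with reduction modulo inner automorphisms (plans/DIH8.md, part II) -/

set_option autoImplicit false

namespace CfsgLib.L3E

open Subgroup CfsgLib.Tech CfsgLib.MOrb Cfsg

universe u

variable {c : Cfg} {s s' : St} {a : Aux}

section

variable {G : Type u} [Group G] [Finite G] {md : ℕ}

private theorem e14_md (h : md ≠ 0) : sz (lvT md) = 64 ∧
    ∀ a < 32, lk rhoT a < 32 ∧ mul (lvT md) 32 a = mul (lvT md) (lk rhoT a) 32 :=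
  match md, h with
  | 1, _ => by decide +kernel
  | _ + 2, _ => (by decide +kernel : sz (lvT 2) = 64 ∧
      ∀ a < 32, lk rhoT a < 32 ∧ mul (lvT 2) 32 a = mul (lvT 2) (lk rhoT a) 32)

/-- an element of `C(t)` extending `T₁` to a 2-group acts on `T₁` as `a ρ` -/
private theorem e14_rho (F : Fr G md) {r : G} (hr : Commute r (F.j 1)) (hn : r ∉ F.X 3)
    (h2 : IsPGroup 2 ↥(F.X 3 ⊔ zpowers r)) :
    md ≠ 0 ∧ ∃ a < 32, ∀ u < 32, (F.j a)⁻¹ * r * F.j u * ((F.j a)⁻¹ * r)⁻¹ = F.j (lk rhoT u) := by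
  obtain ⟨h0, c, c1, a, ha, c2⟩ := F.rho hr hn h2
  obtain ⟨m1, m2⟩ := e14_md h0
  refine ⟨h0, a, ha, fun u hu => ?_⟩
  have e1 := F.conj_of (by omega) (Fr.lt hu) (Fr.lt (m2 u hu).1) (m2 u hu).2
  calc _ = c⁻¹ * ((c * F.j a * c⁻¹)⁻¹ * (c * r * c⁻¹) * (c * F.j u * c⁻¹) *
        ((c * F.j a * c⁻¹)⁻¹ * (c * r * c⁻¹))⁻¹) * c := by group
    _ = c⁻¹ * (c * F.j (lk rhoT u) * c⁻¹) * c := by
      rw [c1 a ha, c2, c1 u hu, inv_mul_cancel_left, e1, c1 _ (m2 u hu).1]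
    _ = _ := by group

private theorem e14_nX (F : Fr G md) {h : ℕ} (hh : h = 1 ∨ h = 2) {r : G} (hr : Commute r (F.j 1)) (hn : r ∉ F.X 3)
    (h2 : IsPGroup 2 ↥(F.X 3 ⊔ zpowers r)) : r ∉ normalizer (F.X h : Set G) := fun hN => by
  obtain ⟨-, a, ha, e⟩ := e14_rho F hr hn h2
  have := conj_mem_of_mem_normalizer (mul_mem (inv_mem (F.norm_X hh (F.mem_X3.2 ⟨a, ha, rfl⟩))) hN)
    (F.j_mem hh (a := 8 * h) (by simp))
  rw [e _ (by omega)] at this
  obtain ⟨b, hb, e'⟩ := (F.mem_X hh).1 this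
  have k : ∀ h ∈ [1, 2], lk rhoT (8 * h) < 32 ∧ ¬ xb h (lk rhoT (8 * h)) := by decide +kernel
  obtain ⟨k1, k2⟩ := k h (by simpa using hh)
  exact k2 (F.rep.inj _ (Fr.lt hb.1) _ (Fr.lt k1) e' ▸ hb)

private theorem e14_two {H K : Subgroup G} (h : H ≤ K) {x : G} (hx : x ∈ K) (hn : x ∉ H) :
    2 * Nat.card H ≤ Nat.card K := by
  have h1 : H.relIndex K ≠ 1 := fun e => hn (relIndex_eq_one.1 e hx)
  have h2 : H.relIndex K ≠ 0 := index_ne_zero_of_finite
  rw [← card_mul_relIndex' h, mul_comm]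
  exact Nat.mul_le_mul_left _ (by omega)

end

theorem e14_take {l : Lv} {lv : List Lvl} {gs : List ℕ} (h : lvB l a lv gs = true) (k : ℕ) :
    lvB l a (lv.take k) gs = true := by
  induction k generalizing gs lv with
  | zero => rfl
  | succ k ih =>
    cases lv with
    | nil => rfl
    | cons v lv =>
      rw [List.take_succ_cons, lvB_cons]
      rw [lvB_cons] at h
      exact ⟨h.1, h.2.1, h.2.2.1, h.2.2.2.1, ih h.2.2.2.2⟩

theorem AuxS.ext2 {x k e : ℕ} {lv : List Lvl} {gm : List ℕ} {ts : List St} {ct : List Lc} {s1 s2 : List (List ℕ)}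
    (h : AuxS.{u} c s x a) (hx : k = 0 → x = 1) (hg : GamS.{u} c s gm) (ht : AllS.{u} c ts)
    (b : ext2B c s a k e lv ts s1 s2 = true) (p1 : Phs s a gm ts ct lv 0 s1) (p2 : Phs s a gm ts ct lv 4 s2) :
    Sound.{u} c s x := by
  intro G _ _ F φ v hy
  have h := h G F φ v hy
  simp only [ext2B, mapK_eq, List.map_id, an_iff, Nat.ble_eq, all2_beq] at b
  obtain ⟨k4, e1, e2, e3, e4, e5, e7, e8⟩ := b
  simp only [an_iff, orr_iff, Nat.beq_eq, allL_iff, anyL_iff, allN_iff, ne_iff, lt_iff, ex_not, memL_iff, frc_eq,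
    Nat.pow_eq, Nat.mul_eq, all2_beq] at e3 e4 e7 e8
  have h32 := h.ex_32 v
  have hP := v.rep.isPGroup
  have lp := h.ex_pows_lt le_rfl
  have kd : ∀ h' ∈ kinds k, h' = 1 ∨ h' = 2 ∨ h' = 3 := by
    interval_cases k <;> decide +kernel
  have PN : ∀ h' ∈ kinds k, img s.lv φ ≤ normalizer (F.toFr.X h' : Set G) := fun h' hh => by
    rw [← h.ex_pows v]
    refine ex_gp_le fun g hg => ?_
    have k0 : k ≠ 0 := by rintro rfl; exact absurd hh List.not_mem_nil
    rw [← v.ex_X (kd h' hh)]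
    refine ex_norm fun y hy => ?_
    have := (e4.resolve_left k0).2.2 h' hh g hg y hy
    rw [← (h.cj v (lp g hg) ((ex_xg (kd h' hh) y hy).1.trans_le h32)).2, v.ex_X (kd h' hh),
      v.base _ (ex_xm_lt this)]
    exact (F.toFr.ex_memX (kd h' hh)).2 ⟨_, this, rfl⟩
  obtain ⟨Good, hG⟩ : ∃ Good : G → Prop, ∀ f, Good f ↔ f ∈ normalizer (img s.lv φ : Set G) ∧ f ∉ img s.lv φ ∧
    f * f ∈ img s.lv φ ∧ ∀ h' ∈ kinds k, f ∈ normalizer (F.toFr.X h' : Set G) := ⟨_, fun _ => Iff.rfl⟩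
  have gm' : ∀ p ∈ img s.lv φ, ∀ f, Good f → Good (p * f) := fun p hp f hf => by
    obtain ⟨f1, f2, f3, f4⟩ := (hG f).1 hf
    refine (hG _).2 ⟨mul_mem (le_normalizer hp) f1, fun e => f2 ((mul_mem_cancel_left hp).1 e), ?_,
      fun h' hh => mul_mem (PN h' hh hp) (f4 h' hh)⟩
    have := mul_mem (mul_mem hp (conj_mem_of_mem_normalizer f1 hp)) f3
    convert this using 1; group
  have run : ∀ f, Good f → ∀ (d d' : ℕ) (ys : List ℕ) (leaf : List ℕ → Bool), (∀ y ∈ ys, y < a.n) →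
      CJ φ φ f (1 :: ((lv.take d').take d).map Lvl.g) ys → dfsP s.lv a [] leaf ((lv.take d').drop d) ys = true →
      ∃ zs, (∀ z ∈ zs, z < a.n) ∧ CJ φ φ f (1 :: (lv.take d').map Lvl.g) zs ∧ leaf zs = true :=
      fun f hf d d' ys leaf y1 y2 y3 => by
    obtain ⟨f1, f2, f3, f4⟩ := (hG f).1 hf
    obtain ⟨zs, z1, z2, z3⟩ := dfsP_sound v h (g := f) (fun e he => by
        have he' := List.mem_of_mem_take (List.mem_of_mem_drop he)
        obtain ⟨y, a1, a2⟩ := (h.ex_mem v).1 (conj_mem_of_mem_normalizer f1 (h.ex_mem' v (ex_lvB_lt e2 e he')))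
        refine ⟨y, a1, a2.symm, fun h => absurd h (e3 e he').1, fun h0 => ?_⟩
        obtain ⟨h', hh, a3, a4⟩ := (e3 e he').2.resolve_left h0
        obtain ⟨y', a5, a6⟩ := (F.toFr.ex_memX (kd h' hh)).1 (conj_mem_of_mem_normalizer (f4 h' hh)
          (v.ex_X (kd h' hh) ▸ ex_gp a3))
        rw [a4, h.ex_inj v a1 ((ex_xm_lt a5).trans_le h32) (by rw [a2, v.base _ (ex_xm_lt a5), a6])]
        exact a5)
      (fun y hy => lp y (by
        rw [← e1]
        exact List.cons_subset_cons _ (List.map_subset _ (List.Subset.trans (List.take_subset d _) (List.take_subset d' lv))) hy))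
      y1 y2 (ex_lvB_drop (e14_take e2 d') d) y3
    rw [List.cons_append, ← List.map_append, List.take_append_drop] at z2
    exact ⟨zs, z1, z2, z3⟩
  have fin : ∀ (d : ℕ) (sts : List (List ℕ)), Phs s a gm ts ct lv d sts → ∀ f, Good f → ∀ ys ∈ sts,
      (∀ y ∈ ys, y < a.n) → CJ φ φ f (1 :: (lv.take d).map Lvl.g) ys → F.toFr.Out := fun d sts hp => by
    induction hp with
    | @fin d _ b =>
      intro f hf ys hy y1 y2
      obtain ⟨zs, z1, z2, z3⟩ := run f hf d lv.length ys _ y1 (by rwa [List.take_length])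
        (by rw [List.take_length]; exact allL_iff.1 b ys hy)
      rw [List.take_length, e1] at z2
      exact leafT_sound v h hg ht e5 z1 z2 ((hG f).1 hf).2.1 ((hG f).1 hf).2.2.1 z3
    | app _ _ i1 i2 => exact fun f hf ys hy => (List.mem_append.1 hy).elim (i1 f hf ys) (i2 f hf ys)
    | @stp d d' _ _ _ b _ ih =>
      intro f hf ys hy y1 y2
      rw [stpB, an_iff, Nat.ble_eq, allL_iff] at b
      obtain ⟨zs, z1, z2, z3⟩ := run f hf d d' ys _ y1 (by rwa [List.take_take, min_eq_left b.1]) (b.2 ys hy)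
      simp only [cov, frc_eq, anyL_iff, an_iff, lt_iff, all2_iff, Nat.beq_eq, len_eq, nth_eq] at z3
      obtain ⟨q, -, -, q1, q2, q3⟩ := z3
      rw [List.getD_eq_getElem _ _ q2] at q3
      have q4 := e5_imp q3 (T := fun y z => z < a.n ∧ φ q.2.1 * φ y * (φ q.2.1)⁻¹ = φ z)
        fun y hy z _ e => e ▸ (h.cj v q1 (z1 y hy)).imp_right Eq.symm
      refine ih _ (gm' _ (h.ex_mem' v q1) f hf) _ (List.getElem_mem q2) (fun z hz => ?_)
        (e5_comp (fun x y z e1 e2 => by rw [← e2.2, ← e1]; group) z2 q4)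
      obtain ⟨i, hi, rfl⟩ := List.getElem_of_mem hz
      exact (List.forall₂_iff_get.1 q4).2 i (q4.length_eq ▸ hi) hi |>.1
  obtain ⟨f0, hf0⟩ : ∃ f, Good f := by
    rcases e4 with rfl | ⟨a1, a2, -⟩
    · obtain rfl := hx rfl
      obtain ⟨f, f1, f2, f3⟩ := exists_ext hP hy
      exact ⟨f, (hG f).2 ⟨f1, f2, f3, fun _ hh => absurd hh List.not_mem_nil⟩⟩
    rw [← h.ex_card v] at a2
    by_cases k0 : k = 0
    · subst k0
      obtain rfl := hx rfl
      obtain ⟨f, f1, f2, f3⟩ := exists_ext hP hy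
      exact ⟨f, (hG f).2 ⟨f1, f2, f3, fun _ hh => absurd hh List.not_mem_nil⟩⟩
    by_cases k4' : k = 4
    · subst k4'
      obtain ⟨f, f1, f2, f3, f4, f5⟩ := F.toFr.notSyl4 (F.orb 1 (.inl rfl)) a1 hP (PN 1 (by decide +kernel))
        (PN 3 (by decide +kernel)) a2
      exact ⟨f, (hG f).2 ⟨f3, f4, f5, fun h' hh => by
        rcases List.mem_pair.1 hh with rfl | rfl
        exacts [f1, f2]⟩⟩
    · have hk : k = 1 ∨ k = 2 ∨ k = 3 := by omega
      have kk : kinds k = [k] ∧ orbm c k = c.ob k := by rcases hk with rfl | rfl | rfl <;> exact ⟨rfl, rfl⟩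
      obtain ⟨f, f1, f3, f4, f5⟩ := F.toFr.notSyl hk (F.orb k hk) (kk.2 ▸ a1) hP (PN k (by simp [kk.1]))
        (by simpa only [cnd_eq, Nat.beq_eq] using a2)
      exact ⟨f, (hG f).2 ⟨f3, f4, f5, fun h' hh => by rw [kk.1] at hh; exact List.mem_singleton.1 hh ▸ f1⟩⟩
  have h1 : 1 < a.n := by omega
  obtain ⟨u0, u1, u2⟩ := (h.ex_mem v).1 (conj_mem_of_mem_normalizer ((hG _).1 hf0).1 (h.ex_mem' v h1))
  obtain ⟨j1, j2, j3⟩ := h.cls u0 u1
  have hf := gm' _ (h.ex_mem' v j2) _ hf0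
  have ft : φ (lk a.cp u0) * f0 * φ 1 * (φ (lk a.cp u0) * f0)⁻¹ = φ (lk a.rp (lk a.ci u0)) := by
    rw [← j3, u2]; group
  generalize φ (lk a.cp u0) * f0 = f at hf ft
  obtain ⟨f1, f2, f3, f4⟩ := (hG f).1 hf
  have ru := (h.rp _ j1).1
  rcases e7 _ j1 with e9 | e9 | ⟨k0, e9⟩ | e9
  · rw [e9, v.ex_one] at ft
    have c1 : Commute f (F.j 1) := mul_inv_eq_iff_eq_mul.1 ft
    have q1 : IsPGroup 2 ↥(img s.lv φ ⊔ zpowers f) := by
      refine hP.to_sup_of_normal_left' ?_ (zpowers_le.2 f1)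
      obtain ⟨i, hi⟩ := isPGroup_iff_mem.1 hP _ f3
      exact isPGroup_zpowers_of_pow (k := i + 1) (by rw [pow_succ', pow_mul, pow_two, hi])
    have n3 : f ∉ F.toFr.X 3 := fun e => f2 (v.ex_X3 e)
    have q2 : IsPGroup 2 ↥(F.toFr.X 3 ⊔ zpowers f) := q1.to_le (sup_le_sup_right v.ex_X3 _)
    obtain ⟨m0, p, hp, r1⟩ := e14_rho F.toFr c1 n3 q2
    rcases e8.resolve_left m0 with e10 | ⟨k0, k3⟩ | e10
    · exfalso
      obtain ⟨-, t1, g, g1, g2⟩ := v.tm e10
      have m1 := (e14_md m0).1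
      have T1 : F.toFr.X 3 ≤ centralizer {F.j 1} := F.toFr.X3_le.trans F.syl.le
      have a1 := e14_two (le_inf v.ex_X3 T1) (x := φ s.tm) ⟨h.ex_mem' v (h.n ▸ t1),
        mem_centralizer_singleton_iff.2 (by
          have := (F.toFr.T_comm (a := 32) (by omega)).eq
          rw [← g2, ← g1 1 (by norm_num)] at this
          calc _ = g⁻¹ * (g * φ s.tm * g⁻¹ * (g * F.j 1 * g⁻¹)) * g := by group
            _ = _ := by rw [this]; group)⟩ fun e => by
        obtain ⟨y, hy, e⟩ := F.toFr.mem_X3.1 e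
        have := F.rep.inj y (Fr.lt hy) 32 (by omega) (by rw [← g2, ← e, g1 y hy])
        omega
      have a2 := e14_two (inf_le_inf_right (centralizer {F.j 1}) (le_sup_left : img s.lv φ ≤ img s.lv φ ⊔ zpowers f))
        (x := f) ⟨mem_sup_right (mem_zpowers f), mem_centralizer_singleton_iff.2 c1⟩ fun e => f2 e.1
      have a3 := F.toFr.card_le (IsConj.refl _) (R := (img s.lv φ ⊔ zpowers f) ⊓ centralizer {F.j 1})
        q1.to_inf_left fun r hr => mem_centralizer_singleton_iff.1 hr.2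
      rw [F.toFr.card_X3] at a1
      omega
    · exfalso
      obtain rfl | rfl | rfl : k = 1 ∨ k = 2 ∨ k = 4 := by omega
      · exact e14_nX F.toFr (.inl rfl) c1 n3 q2 (f4 1 (by decide +kernel))
      · exact e14_nX F.toFr (.inr rfl) c1 n3 q2 (f4 2 (by decide +kernel))
      · exact e14_nX F.toFr (.inl rfl) c1 n3 q2 (f4 1 (by decide +kernel))
    · obtain ⟨_, e10, rfl⟩ := e10
      refine fin 4 _ p2 _ (gm' _ (inv_mem (v.ex_X3 (F.toFr.mem_X3.2 ⟨p, hp, rfl⟩))) _ hf) _ e10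
        (fun y hy => lt_of_lt_of_le (by simp at hy; omega) h32) ?_
      have : 1 :: (lv.take 4).map Lvl.g = [1, 2, 4, 8, 16] := by
        have := congrArg (List.take 5) e1
        rw [List.take_succ_cons, ← List.map_take] at this
        rw [this, pows, ← List.map_take, List.take_range, min_eq_left (by rw [h.ex_k v]; omega)]
        rfl
      rw [this]
      have key : ∀ x y, x < 32 → y < 32 → lk rhoT x = y → (F.j p)⁻¹ * f * φ x * ((F.j p)⁻¹ * f)⁻¹ = φ y :=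
        fun x y hx hy e => by rw [v.base x hx, v.base y hy, r1 x hx, e]
      refine .cons ?_ (.cons ?_ (.cons ?_ (.cons ?_ (.cons ?_ .nil)))) <;>
        exact key _ _ (by norm_num) (by norm_num) (by decide +kernel)
  · refine absurd ⟨f, by rw [h.r1, ft], fun r hr _ => ?_⟩ (h.neT v (h.cls 1 h1).1 j1 e9)
    obtain ⟨r', a1, a2⟩ := (h.ex_mem v).1 (conj_mem_of_mem_normalizer f1 (h.ex_mem' v hr))
    exact ⟨r', a1, a2.symm⟩
  · refine absurd ?_ e9
    rw [v.ex_one] at ft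
    have key : ∀ h' ∈ kinds k, lk a.rp (lk a.ci u0) < 32 ∧ f * F.j 1 * f⁻¹ = F.j (lk a.rp (lk a.ci u0)) ∧
        (c.ob h').testBit (lk a.rp (lk a.ci u0)) = true := fun h' hh => by
      obtain ⟨y, y1, y2⟩ := (F.toFr.ex_memX (kd h' hh)).1 (conj_mem_of_mem_normalizer (f4 h' hh)
        ((F.toFr.ex_memX (kd h' hh)).2 ⟨1, by rcases kd h' hh with rfl | rfl | rfl <;> decide +kernel, rfl⟩))
      have y3 := ex_xm_lt y1
      rw [h.ex_inj v ru (y3.trans_le h32) (by rw [← ft, v.base y y3, y2])]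
      exact ⟨y3, y2.symm, (F.orb h' (kd h' hh) y).1 ⟨y3, f, f4 h' hh, y2.symm⟩⟩
    rw [tb_eq]
    by_cases k4' : k = 4
    · subst k4'
      obtain ⟨a1, a2, a3⟩ := key 1 (by decide +kernel)
      obtain ⟨y, y1, y2⟩ := F.toFr.orbT_lt ⟨f, f4 3 (by decide +kernel), a2⟩
      have y3 := F.rep.inj _ (Fr.lt (by omega)) _ (Fr.lt a1) y2
      change (c.oA &&& (2 ^ 8 - 1)).testBit _ = true
      rw [Nat.testBit_and, Nat.testBit_two_pow_sub_one, Bool.and_eq_true, decide_eq_true_iff]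
      exact ⟨a3, y3 ▸ y1⟩
    · have hk : k = 1 ∨ k = 2 ∨ k = 3 := by omega
      have kk : kinds k = [k] ∧ orbm c k = c.ob k := by rcases hk with rfl | rfl | rfl <;> exact ⟨rfl, rfl⟩
      rw [kk.2]
      exact (key k (by simp [kk.1])).2.2
  · obtain ⟨_, e9, rfl⟩ := e9
    exact fin 0 _ p1 f hf _ e9 (by simpa using ru) (.cons ft .nil)

end CfsgLib.L3E
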