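import Cfsg.Agent.Lib.L3E.E5
import Cfsg.Agent.Lib.L3E.Trf
import Cfsg.Agent.Lib.L3E.Box
import Cfsg.Agent.Lib.L3E.E4a
import Cfsg.Agent.Lib.L3E.E8

/-! E9: leaves inside `K` (plans/DIH8.md, part II) -/

set_option autoImplicit false

namespace CfsgLib.L3E

open Subgroup CfsgLib.Tech CfsgLib.MOrb Cfsg

universe u

variable {G : Type u} [Group G] [Finite G] {md : ℕ} {F : Fr G md} {c : Cfg} {s s' : St} {φ ψ : ℕ → G} {a : Aux} {l l' : Lv}

private theorem e9_t (v : Valid F s φ) {m : ℕ} (hm : Nat.land m 1 = 1)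
    (hK : ∀ x < sz s.lv, φ x ∈ F.K ↔ par m x = 0) : F.j 1 ∉ F.K := by
  rw [← v.ex_one, hK 1 (lt_of_lt_of_le (by norm_num) v.rep.wf.ge)]
  have := par_pow m (i := 0) (by norm_num)
  rw [pow_zero, if_pos (by rw [Nat.testBit_zero, ← Nat.and_one_is_mod]; exact decide_eq_true hm)] at this
  omega

/-- the Schreier generators generate `P ∩ K` -/
theorem schr_gen (v : Valid F s φ) (h : AuxOk F s φ a) {m : ℕ} (hm : Nat.land m 1 = 1)
    (hK : ∀ x < sz s.lv, φ x ∈ F.K ↔ par m x = 0) :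
    (∀ x ∈ schr s.lv a.k m, x < a.n) ∧ gp φ (schr s.lv a.k m) = img s.lv φ ⊓ F.K ∧
      2 * Nat.card ↥(img s.lv φ ⊓ F.K) = a.n := by

  have ht := e9_t v hm hK
  have h1 : 1 < a.n := lt_of_lt_of_le (by norm_num) (h.ex_32 v)
  have lp := h.ex_pows_lt le_rfl
  have tt : φ 1 * φ 1 = 1 := by rw [v.ex_one, F.tt]
  rw [← v.ex_one] at ht
  have key : ∀ x ∈ schr s.lv a.k m, x < a.n ∧ φ x ∈ F.K := fun x hx => by
    obtain ⟨g, hg, hx⟩ := List.mem_flatMap.1 hx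
    have g1 := lp g hg
    have g2 := hK g (h.n ▸ g1)
    obtain ⟨a1, a2⟩ := h.ex_mul v h1 g1
    simp only [cnd_eq, Nat.beq_eq] at hx
    split_ifs at hx with h0 <;> rcases List.mem_pair.1 hx with rfl | rfl
    · exact ⟨g1, g2.2 h0⟩
    · refine ⟨(h.ex_mul v a1 h1).1, ?_⟩
      rw [(h.ex_mul v a1 h1).2, a2, e8_mulK, e8_mulK]
      tauto
    · refine ⟨(h.ex_mul v g1 h1).1, ?_⟩
      rw [(h.ex_mul v g1 h1).2, e8_mulK]
      tauto
    · refine ⟨a1, ?_⟩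
      rw [a2, e8_mulK]
      tauto
  have le : gp φ (schr s.lv a.k m) ≤ img s.lv φ ⊓ F.K := ex_gp_le fun x hx => ⟨h.ex_mem' v (key x hx).1, (key x hx).2⟩
  refine ⟨fun x hx => (key x hx).1, le_antisymm le fun g hg => ?_, ?_⟩
  · obtain ⟨x, -, x1, rfl⟩ := v.rep.mem_of_closed (L := pows a.k) (h.n ▸ lp)
      (p := fun x => φ x ∈ gp φ (schr s.lv a.k m) ∨ φ x * φ 1 ∈ gp φ (schr s.lv a.k m))
      (.inl (v.rep.one ▸ one_mem _)) (fun x hx p y hy => by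
        have y1 := lp y hy
        obtain ⟨a1, a2⟩ := h.ex_mul v h1 y1
        have m0 : ∀ z ∈ cnd (Nat.beq (par m y) 0) [y, mul s.lv (mul s.lv 1 y) 1] [mul s.lv y 1, mul s.lv 1 y],
            φ z ∈ gp φ (schr s.lv a.k m) := fun z hz => ex_gp (List.mem_flatMap.2 ⟨y, hy, hz⟩)
        rw [(h.ex_mul v (h.n ▸ hx) y1).2]
        simp only [cnd_eq, Nat.beq_eq] at m0
        split_ifs at m0 <;> simp only [List.forall_mem_cons] at m0 <;> obtain ⟨m1, m2, -⟩ := m0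
        · rw [(h.ex_mul v a1 h1).2, a2] at m2
          refine p.imp (fun p => mul_mem p m1) fun p => ?_
          have := mul_mem p m2
          rwa [mul_assoc, ← mul_assoc (φ 1), ← mul_assoc (φ 1), tt, one_mul, ← mul_assoc] at this
        · rw [(h.ex_mul v y1 h1).2] at m1
          rw [a2] at m2
          refine p.symm.imp (fun p => ?_) fun p => mul_assoc (φ x) _ _ ▸ mul_mem p m1
          have := mul_mem p m2
          rwa [mul_assoc, ← mul_assoc (φ 1), tt, one_mul] at this) (h.ex_pows v ▸ hg.1)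
    exact x1.resolve_right fun e => ht ((F.K.mul_mem_cancel_left hg.2).1 (le e).2)
  · have := F.nK
    have d := relIndex_dvd_index_of_normal F.K (img s.lv φ)
    rw [F.index_of_not_mem (v.ex_one ▸ ht)] at d
    have e := card_mul_relIndex' (inf_le_left : img s.lv φ ⊓ F.K ≤ _)
    rw [inf_relIndex_left, ((Nat.dvd_prime Nat.prime_two).1 d).resolve_left fun e =>
      ht (relIndex_eq_one.1 e (h.ex_mem' v h1)), h.ex_card v] at e
    omega

theorem AuxS.ktp {m μ x : ℕ} (h : AuxS.{u} c s (m + 2) a) (b : ktpB s a m μ x = true) : Sound.{u} c s (m + 2) := by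

  intro G _ _ F φ v hy
  have h := h G F φ v hy
  obtain ⟨hS, hK⟩ := hy
  exfalso
  simp only [ktpB, an_iff, orr_iff, lt_iff, allN_iff, Nat.beq_eq, mapK_eq, List.map_id, allL_iff (L := schr _ _ _)] at b
  obtain ⟨b1, hu, b2, b3, b4⟩ := b
  obtain ⟨l1, l2, -⟩ := schr_gen v h b1 hK
  rw [← h.n] at hK
  have b5 := fun y hy (e : φ y ∈ F.K) => (b4 y hy).resolve_left (by rw [(hK y hy).1 e]; norm_num)
  have b6 : ∀ y < a.n, φ y ∈ F.K → ∀ g ∈ schr s.lv a.k m, tb μ (mul s.lv y g) = xor (tb μ y) (tb μ g) :=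
    fun y hy e g hg => by
      have := (b5 y hy e).1 g hg
      revert this
      cases tb μ (mul s.lv y g) <;> cases tb μ y <;> cases tb μ g <;> simp [cnd]
  have h0 : 0 < a.n := lt_of_lt_of_le (by norm_num) (h.ex_32 v)
  have m0 : tb μ 0 = false := by
    obtain ⟨g, hg⟩ : ∃ g, g ∈ schr s.lv a.k m := by
      refine ⟨_, List.mem_flatMap.2 ⟨1, List.mem_map.2 ⟨0, List.mem_range.2 (by rw [h.ex_k v]; omega), rfl⟩,
        List.head_mem ?_⟩⟩
      cases Nat.beq (L3E.par m 1) 0 <;> simp [cnd]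
    have := b6 0 h0 (v.rep.one ▸ one_mem _) g hg
    rw [v.rep.wf.zero_mul (h.n ▸ l1 g hg)] at this
    revert this
    cases tb μ 0 <;> cases tb μ g <;> simp
  have hom : ∀ y < a.n, φ y ∈ F.K → ∀ z < a.n, φ z ∈ F.K → tb μ (mul s.lv y z) = xor (tb μ y) (tb μ z) := by
    intro y hy e z hz e'
    obtain ⟨z', z1, z2, z3⟩ := v.rep.mem_of_closed (L := schr s.lv a.k m) (h.n ▸ l1)
      (p := fun z => φ z ∈ F.K ∧ tb μ (mul s.lv y z) = xor (tb μ y) (tb μ z))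
      ⟨v.rep.one ▸ one_mem _, by rw [v.rep.wf.mul_zero (h.n ▸ hy), m0, Bool.xor_false]⟩ (fun z hz p g hg => by
        rw [← h.n] at hz
        have g1 := l1 g hg
        have g2 : φ g ∈ F.K := (l2.le (ex_gp hg)).2
        obtain ⟨a1, a2⟩ := h.ex_mul v hz g1
        obtain ⟨a3, a4⟩ := h.ex_mul v hy hz
        refine ⟨a2 ▸ mul_mem p.1 g2, ?_⟩
        rw [h.ex_inj v (h.ex_mul v hy a1).1 (h.ex_mul v a3 g1).1 (by
          rw [(h.ex_mul v hy a1).2, (h.ex_mul v a3 g1).2, a2, a4, mul_assoc]),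
          b6 _ a3 (a4 ▸ mul_mem e p.1) g hg, p.2, b6 z hz p.1 g hg, Bool.xor_assoc])
      (l2.ge ⟨h.ex_mem' v hz, e'⟩)
    rw [← h.ex_inj v (h.n ▸ z1) hz z3, z2.2]
  let M : Subgroup G :=
    { carrier := {g | ∃ y < a.n, φ y ∈ F.K ∧ tb μ y = false ∧ φ y = g}
      one_mem' := ⟨0, h0, v.rep.one ▸ one_mem _, m0, v.rep.one⟩
      mul_mem' := by
        rintro _ _ ⟨y, hy, y1, y2, rfl⟩ ⟨z, hz, z1, z2, rfl⟩
        exact ⟨_, (h.ex_mul v hy hz).1, (h.ex_mul v hy hz).2 ▸ mul_mem y1 z1, by rw [hom y hy y1 z hz z1, y2, z2]; rfl,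
          (h.ex_mul v hy hz).2⟩
      inv_mem' := by
        rintro _ ⟨y, hy, y1, y2, rfl⟩
        obtain ⟨i1, i2⟩ := h.iv y hy
        have := hom y hy y1 _ i1 (i2 ▸ inv_mem y1)
        rw [h.ex_inj v (h.ex_mul v hy i1).1 h0 (by rw [(h.ex_mul v hy i1).2, i2, mul_inv_cancel, v.rep.one]), m0,
          y2, Bool.false_xor] at this
        exact ⟨_, i1, i2 ▸ inv_mem y1, this.symm, i2⟩ }
  have mM : ∀ y < a.n, φ y ∈ F.K → (φ y ∈ M ↔ tb μ y = false) := fun y hy e =>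
    ⟨fun ⟨z, hz, _, z2, z3⟩ => h.ex_inj v hz hy z3 ▸ z2, fun h1 => ⟨y, hy, e, h1, rfl⟩⟩
  have uK := (hK x hu).2 b2
  have uS : φ x ∈ img s.lv φ ⊓ F.K := ⟨h.ex_mem' v hu, uK⟩
  obtain ⟨g, -, ⟨z, hz, z1, z2, z3⟩, -⟩ := L3E.tp (F.toFr.sylK hS) (M := M)
    (by rintro _ ⟨y, hy, y1, -, rfl⟩; exact ⟨h.ex_mem' v hy, y1⟩)
    (relIndex_eq_two_iff.2 ⟨_, uS, fun y hy0 => by
      obtain ⟨y, hy, rfl⟩ := (h.ex_mem v).1 hy0.1
      have := (h.ex_mul v hy hu).2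
      rw [← this, mM _ (h.ex_mul v hy hu).1 (this ▸ mul_mem hy0.2 uK), mM _ hy hy0.2, hom y hy hy0.2 x hu uK, b3]
      cases tb μ y <;> simp [Xor]⟩) uS (fun f => F.toFr.hom_one' _ f)
    (fun t ht g _ hg => by
      obtain ⟨z, hz, e⟩ := (h.ex_mem v).1 hg.1
      have zK : φ z ∈ F.K := e ▸ hg.2
      rw [← e, mM z hz zK]
      by_contra h1
      have b7 := (b5 z hz zK).2
      rw [cnd_eq, if_pos (by simpa using h1), allL_iff] at b7
      have ho : orderOf (φ x) = 2 ^ lk a.od (lk a.ci x) := by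
        obtain ⟨p, hp⟩ := isConj_iff.1 (h.isConj_rp hu)
        rw [← (h.rp _ (h.cls x hu).1).2.2, ← hp]
        exact ((MulAut.conj p).orderOf_eq _).symm
      obtain ⟨w, w1, w2, w3⟩ : ∃ w ∈ pwL s.lv (Nat.pred (lk a.od (lk a.ci x))) (mul s.lv x x) [],
          w < sz s.lv ∧ φ w = φ x ^ 2 ^ t := by
        obtain ⟨w, h1, h2, h3⟩ := e8_pw_mem v.rep (Nat.pred (lk a.od (lk a.ci x))) (L := [])
          (h.n ▸ (h.ex_mul v hu hu).1) (min (t - 1) (Nat.pred (lk a.od (lk a.ci x)))) (min_le_right _ _)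
        refine ⟨w, h1, h2, ?_⟩
        rw [h3, (h.ex_mul v hu hu).2, ← sq, ← pow_mul, ← pow_succ', Nat.pred_eq_sub_one]
        by_cases h4 : t - 1 ≤ lk a.od (lk a.ci x) - 1
        · rw [min_eq_left h4, Nat.sub_add_cancel ht]
        · rw [min_eq_right (by omega), orderOf_dvd_iff_pow_eq_one.1 (ho ▸ pow_dvd_pow 2 (by omega)),
            orderOf_dvd_iff_pow_eq_one.1 (ho ▸ pow_dvd_pow 2 (by omega))]
      rw [← h.n] at w2
      exact h.clash w2 hz (b7 _ (List.mem_map_of_mem w1)) (isConj_iff.2 ⟨g, by rw [w3, e]⟩))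
  have b7 := (b5 z hz z1).2
  rw [cnd_eq, if_neg (by simp [z2])] at b7
  exact h.clash hu hz b7 (isConj_iff.2 ⟨g, z3.symm⟩)

theorem AuxS.e8 {m x y z : ℕ} (h : AuxS.{u} c s (m + 2) a) (b : e8B s a m x y z = true) : Sound.{u} c s (m + 2) := by

  intro G _ _ F φ v hy
  have h := h G F φ v hy
  obtain ⟨hS, hK⟩ := hy
  exfalso
  simp only [e8B, an_iff, orr_iff, lt_iff, allN_iff, allL_iff, Nat.beq_eq, frc_eq] at b
  obtain ⟨b1, b2, b3, b4, b5⟩ := b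
  rw [← h.n] at hK
  have key : ∀ w ∈ [x, y, z], w < a.n ∧ φ w ∈ img s.lv φ ⊓ F.K ∧ φ w * φ w = 1 := fun w hw => by
    obtain ⟨w1, w2, w3⟩ := b1 w hw
    exact ⟨w1, ⟨h.ex_mem' v w1, (hK w w1).2 w2⟩, by rw [← (h.ex_mul v w1 w1).2, w3, v.rep.one]⟩
  obtain ⟨x1, x2, x3⟩ := key x (by simp)
  obtain ⟨y1, y2, y3⟩ := key y (by simp)
  obtain ⟨z1, z2, z3⟩ := key z (by simp)
  refine F.toFr.e8 (F.toFr.sylK hS) x2 y2 z2 x3 y3 z3 ((h.ex_com v x1 y1).1 b2) ((h.ex_com v x1 z1).1 b3)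
    ((h.ex_com v y1 z1).1 b4) fun w hw c1 c2 c3 => ?_
  obtain ⟨w, w1, rfl⟩ := (h.ex_mem v).1 hw.1
  rcases b5 w w1 with e | e | e
  · rw [(hK w w1).1 hw.2] at e
    exact absurd e (by norm_num)
  · refine ex_gp_le (gs := [x, y, z]) (fun u hu => subset_closure ?_)
      (ex_mkM v.rep (fun u hu => h.n ▸ (key u hu).1) e).2
    simp only [List.mem_cons, List.not_mem_nil, or_false] at hu
    rcases hu with rfl | rfl | rfl <;> simp
  · rw [(h.ex_com v w1 x1).2 c1, (h.ex_com v w1 y1).2 c2, (h.ex_com v w1 z1).2 c3] at e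
    exact absurd e (by simp [cnd])

theorem wf_lL : Wf lL := wfB_sound (by decide +kernel)

theorem AuxS.leaf {m χ lb : ℕ} {ws fw : List (List ℕ)} (h : AuxS.{u} c s (m + 2) a)
    (b : lfB s a m χ ws lb fw = true) : Sound.{u} c s (m + 2) := by
  intro G _ _ F φ v hy
  have h := h G F φ v hy
  obtain ⟨hS, hK⟩ := hy
  rw [lfB, an_iff] at b
  obtain ⟨b0, b⟩ := b
  simp only [an_iff, orr_iff, allN_iff, Nat.beq_eq, Nat.ble_eq, frc_eq] at b
  obtain ⟨b1, b2, b3⟩ := b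
  obtain ⟨c1, v'⟩ := jmpB_sound (s' := sL) v h wf_lL b0
  have n1 : sz s.lv = 1024 := h.n ▸ b1
  have c2 : ∀ x < 1024, lk χ x < a.n := fun x hx => h.n ▸ c1 x hx
  have e : img lL (fun x => φ (lk χ x)) = img s.lv φ := by
    refine eq_of_le_of_card_ge (fun g hg => ?_) (by rw [v.rep.card_img, n1]; exact v'.rep.card_img.ge)
    obtain ⟨x, hx, rfl⟩ := v'.rep.mem_img.1 hg
    exact v.rep.mem_img.2 ⟨_, c1 x hx, rfl⟩
  refine ⟨_, v', e ▸ hS, fun x hx => ?_, fun x hx y hy e => ?_, fun x hx e => ?_⟩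
  · rw [hK _ (c1 x hx), (b2 x hx).1]
  · rw [(b2 x hx).2, (b2 y hy).2]
    by_contra ne
    exact h.clash (c2 x hx) (c2 y hy) (((b3 _ (h.cls _ (c2 x hx)).1).1 _ (h.cls _ (c2 y hy)).1).resolve_left ne) e
  · have hi := (h.cls _ (c2 x hx)).1
    rw [(b2 x hx).2] at e ⊢
    obtain ⟨g, -, hg⟩ := h.apk v (nth [] fw (lk a.ci (lk χ x)))
    obtain ⟨y, -, e1, e2⟩ := hg _ (h.rp _ hi).1 _ ((b3 _ hi).2.resolve_left e.not_ge)
    have e3 := Nat.eq_of_beq_eq_true e2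
    rw [e3] at e ⊢
    have e4 : φ (lk χ y) = φ y := (v'.base y (by omega)).trans (v.base y (by omega)).symm
    exact e4 ▸ (h.isConj_rp (c2 x hx)).trans (isConj_iff.2 ⟨g, e1⟩)

end CfsgLib.L3E
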