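import Cfsg.Agent.Lib.L3E.Orb

/-! EX: two impossible orbits of `t` under `N(A)` (plans/DIH8.md) -/

set_option autoImplicit false
set_option linter.unusedSectionVars false
set_option linter.unusedVariables false

namespace CfsgLib.L3E

open Subgroup CfsgLib.Tech CfsgLib.MOrb Cfsg

variable {G : Type*} [Group G] [Finite G] {md : ℕ}

/-- the linear map on codes with the given images of `1, 2, 4, 8` -/
def exLin (p q r s a : ℕ) : ℕ :=
  (a % 2 * p) ^^^ (a / 2 % 2 * q) ^^^ (a / 4 % 2 * r) ^^^ (a / 8 % 2 * s)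

/-- `σ` on codes -/
def exS (a : ℕ) : ℕ := lk sgT a

/-- `b` on codes -/
def exB (a : ℕ) : ℕ := a ^^^ (a / 8 % 2 * 2)

/-- `f = g ∘ s` on the generators -/
def exE (f g s : ℕ → ℕ) : Bool := f 2 == g (s 2) && f 4 == g (s 4) && f 8 == g (s 8)

/-- two maps with the same image of `t` differ by an element of `⟨σ, b⟩` -/
def exOk (f g : ℕ → ℕ) : Bool :=
  !(f 1 == g 1) || exE f g id || exE f g exS || exE f g (exS ∘ exS) || exE f g exB || exE f g (exB ∘ exS) ||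
    exE f g (exB ∘ exS ∘ exS)

/-- injective -/
def exInj (f : ℕ → ℕ) : Bool := (List.range 16).all fun a => a == 0 || !(f a == 0)

/-- preserves the mask -/
def exPres (O : ℕ) (f : ℕ → ℕ) : Bool := (List.range 16).all fun a => O.testBit a == O.testBit (f a)

/-- a check for all triples of codes -/
def exAll (c : ℕ → ℕ → ℕ → Bool) : Bool :=
  (List.range 16).all fun q => (List.range 16).all fun r => (List.range 16).all fun s => c q r s

theorem exAll_spec {c : ℕ → ℕ → ℕ → Bool} (h : exAll c = true) {q r s : ℕ} (hq : q < 16) (hr : r < 16)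
    (hs : s < 16) : c q r s = true := by
  simp only [exAll, List.all_eq_true, List.mem_range] at h
  exact h q hq r hr s hs

theorem ex_chk7 : exAll (fun q r s => !(exPres 0xf032 (exLin 4 q r s) && exInj (exLin 4 q r s))) = true := by
  decide +kernel

theorem ex_chkW : ∀ p, p = 6 ∨ p = 7 → exAll (fun q r s =>
    !(exOk (exLin p q r s) (exS ∘ exLin p q r s) && exInj (exLin p q r s)) ||
      exLin p q r s 6 == 1 || exLin p q r s 6 == 6 || exLin p q r s 6 == 7) = true := by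
  rintro p (rfl | rfl) <;> decide +kernel

/-- the conditions on a map sending `t` to `s` -/
def exC1 (f : ℕ → ℕ) : Bool :=
  exPres 0xfafa f && exInj f && exOk f (exB ∘ f) && exOk (f ∘ f) (exB ∘ exS ∘ f ∘ f) &&
    exOk (f ∘ f) (exS ∘ exB ∘ f ∘ f) && exOk (f ∘ exS ∘ f) (exS ∘ f ∘ f) && exOk (f ∘ f) (exS ∘ f ∘ exS ∘ f)

theorem ex_chk12 : exAll (fun q r s => !(exC1 (exLin 4 q r s)) || exAll fun q' r' s' =>
    !(exOk (exLin 7 q' r' s') (exS ∘ exLin 7 q' r' s') && exPres 0xfafa (exLin 7 q' r' s') &&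
      exInj (exLin 7 q' r' s') && exOk (exLin 7 q' r' s') (exLin 4 q r s ∘ exLin 7 q' r' s'))) = true := by
  decide +kernel

namespace Fr

variable (F : Fr G md)

/-- `n` acts on `A` as `f` -/
def ExAct (n : G) (f : ℕ → ℕ) : Prop := ∀ a < 16, f a < 16 ∧ n * F.j a * n⁻¹ = F.j (f a)

/-- `f` is induced by the normaliser of `A` -/
def ExW (f : ℕ → ℕ) : Prop := ∃ n, F.ExAct n f

theorem ex_mul {a b : ℕ} (ha : a < 32) (hb : b < 32) : F.j (m5 a b) = F.j a * F.j b := by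
  rw [← mul_nil]; exact F.rep.base.map a ha b hb

theorem ex_inj {a b : ℕ} (ha : a < 32) (hb : b < 32) (h : F.j a = F.j b) : a = b := F.rep.base.inj a ha b hb h

variable {F}

theorem ExAct.norm {n : G} {f : ℕ → ℕ} (h : F.ExAct n f) : n ∈ normalizer (F.X 1 : Set G) := by
  refine mem_normalizer_of_forall fun x hx => ?_
  obtain ⟨a, ha, rfl⟩ := F.mem_X1.1 hx
  exact F.mem_X1.2 ⟨_, (h a ha).1, (h a ha).2.symm⟩

theorem ExW.comp {f g : ℕ → ℕ} (hf : F.ExW f) (hg : F.ExW g) : F.ExW (f ∘ g) := by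
  obtain ⟨n, hn⟩ := hf
  obtain ⟨m, hm⟩ := hg
  refine ⟨n * m, fun a ha => ⟨(hn _ (hm a ha).1).1, ?_⟩⟩
  rw [Function.comp, ← (hn _ (hm a ha).1).2, ← (hm a ha).2]; group

variable (F)

theorem ex_S : F.ExAct F.σ exS := fun a ha =>
  ⟨(by decide : ∀ a < 16, exS a < 16) a ha, F.hσ a ha⟩

theorem ex_T {x : ℕ} (hx : x < 32) : F.ExAct (F.j x) (if x < 16 then id else exB) := by
  intro a ha
  have h := (by decide +kernel : ∀ x < 32, ∀ a < 16, (if x < 16 then id else exB) a < 16 ∧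
    m5 x a = m5 ((if x < 16 then id else exB) a) x) x hx a ha
  refine ⟨h.1, ?_⟩
  rw [mul_inv_eq_iff_eq_mul, ← F.ex_mul hx (by omega), h.2, F.ex_mul (by omega) hx]

theorem ex_WS : F.ExW exS := ⟨_, F.ex_S⟩

theorem ex_WB : F.ExW exB := ⟨_, F.ex_T (x := 16) (by decide)⟩

theorem ex_lin {n : G} (hn : n ∈ normalizer (F.X 1 : Set G)) {p : ℕ} (hp : p < 16) (h1 : n * F.j 1 * n⁻¹ = F.j p) :
    ∃ q < 16, ∃ r < 16, ∃ s < 16, F.ExAct n (exLin p q r s) := by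
  have key : ∀ a < 16, ∃ b < 16, n * F.j a * n⁻¹ = F.j b := fun a ha => by
    obtain ⟨b, hb, e⟩ := F.mem_X1.1 (conj_mem_of_mem_normalizer hn (F.mem_X1.2 ⟨a, ha, rfl⟩))
    exact ⟨b, hb, e.symm⟩
  obtain ⟨q, hq, h2⟩ := key 2 (by decide)
  obtain ⟨r, hr, h4⟩ := key 4 (by decide)
  obtain ⟨s, hs, h8⟩ := key 8 (by decide)
  refine ⟨q, hq, r, hr, s, hs, ?_⟩
  have hx : ∀ a < 16, ∀ b < 16, a ^^^ b < 16 ∧ F.j (a ^^^ b) = F.j a * F.j b := fun a ha b hb => by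
    have h := (by decide +kernel : ∀ a < 16, ∀ b < 16, a ^^^ b < 16 ∧ m5 a b = a ^^^ b) a ha b hb
    exact ⟨h.1, by rw [← h.2, F.ex_mul (by omega) (by omega)]⟩
  have h0 : n * F.j 0 * n⁻¹ = F.j 0 := by rw [F.rep.one]; group
  have step : ∀ a a' b b', a < 16 → b < 16 → (a' < 16 ∧ n * F.j a * n⁻¹ = F.j a') →
      (b' < 16 ∧ n * F.j b * n⁻¹ = F.j b') → a' ^^^ b' < 16 ∧ n * F.j (a ^^^ b) * n⁻¹ = F.j (a' ^^^ b') := by
    intro a a' b b' ha hb h h'
    refine ⟨(hx _ h.1 _ h'.1).1, ?_⟩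
    rw [(hx _ ha _ hb).2, (hx _ h.1 _ h'.1).2, ← h.2, ← h'.2]; group
  have bit : ∀ e < 2, ∀ c c', c' < 16 → n * F.j c * n⁻¹ = F.j c' →
      e * c' < 16 ∧ n * F.j (e * c) * n⁻¹ = F.j (e * c') := by
    intro e he c c' hc h
    interval_cases e
    · simp [F.rep.one]
    · simpa using ⟨hc, h⟩
  intro a ha
  have e : a = exLin 1 2 4 8 a := (by decide : ∀ a < 16, a = exLin 1 2 4 8 a) a ha
  have l := (by decide : ∀ a < 16, a % 2 * 1 < 16 ∧ a / 2 % 2 * 2 < 16 ∧ a / 4 % 2 * 4 < 16 ∧ a / 8 % 2 * 8 < 16 ∧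
    (a % 2 * 1) ^^^ (a / 2 % 2 * 2) < 16 ∧ (a % 2 * 1) ^^^ (a / 2 % 2 * 2) ^^^ (a / 4 % 2 * 4) < 16) a ha
  have := step _ _ _ _ l.2.2.2.2.2 l.2.2.2.1 (step _ _ _ _ l.2.2.2.2.1 l.2.2.1 (step _ _ _ _ l.1 l.2.1
    (bit _ (Nat.mod_lt _ two_pos) _ _ hp h1) (bit _ (Nat.mod_lt _ two_pos) _ _ hq h2))
    (bit _ (Nat.mod_lt _ two_pos) _ _ hr h4)) (bit _ (Nat.mod_lt _ two_pos) _ _ hs h8)
  refine ⟨this.1, ?_⟩
  conv_lhs => rw [e]
  exact this.2

variable {F}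

theorem ExW.inj {f : ℕ → ℕ} (hf : F.ExW f) : exInj f = true := by
  obtain ⟨n, hn⟩ := hf
  simp only [exInj, List.all_eq_true, List.mem_range, Bool.or_eq_true, beq_iff_eq, Bool.not_eq_true',
    beq_eq_false_iff_ne]
  intro a ha
  by_contra h
  rw [not_or, not_not] at h
  have := (hn a ha).2
  rw [h.2, F.rep.one, mul_inv_eq_one, mul_eq_left, ← F.rep.one] at this
  exact h.1 (F.ex_inj (by omega) (by omega) this)

theorem ex_orb {h : ℕ} {n x y : G} (hn : n ∈ normalizer (F.X h : Set G)) :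
    n * y * n⁻¹ ∈ F.orb h x ↔ y ∈ F.orb h x := by
  constructor
  · rintro ⟨m, hm, e⟩
    refine ⟨n⁻¹ * m, mul_mem (inv_mem hn) hm, ?_⟩
    calc _ = n⁻¹ * (m * x * m⁻¹) * n := by group
      _ = y := by rw [e]; group
  · rintro ⟨m, hm, rfl⟩
    exact ⟨n * m, mul_mem hn hm, by group⟩

theorem ExW.pres {f : ℕ → ℕ} (hf : F.ExW f) {O : ℕ} (hO : ∀ a < 16, F.j a ∈ F.orb 1 (F.j 1) ↔ O.testBit a) :
    exPres O f = true := by
  obtain ⟨n, hn⟩ := hf
  simp only [exPres, List.all_eq_true, List.mem_range, beq_iff_eq]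
  intro a ha
  rw [Bool.eq_iff_iff, ← hO a ha, ← hO _ (hn a ha).1, ← (hn a ha).2, ex_orb hn.norm]

theorem ExW.ok {f g : ℕ → ℕ} (hf : F.ExW f) (hg : F.ExW g) : exOk f g = true := by
  obtain ⟨n, hn⟩ := hf
  obtain ⟨m, hm⟩ := hg
  by_cases h1 : f 1 = g 1
  swap
  · simp [exOk, h1]
  have hc : Commute (m⁻¹ * n) (F.j 1) := by
    have e := (hn 1 (by decide)).2
    rw [h1, ← (hm 1 (by decide)).2] at e
    calc m⁻¹ * n * F.j 1 = m⁻¹ * (n * F.j 1 * n⁻¹) * n := by group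
      _ = _ := by rw [e]; group
  obtain ⟨x, hx, i, hi, e⟩ := F.actA hc (mul_mem (inv_mem hm.norm) hn.norm) F.hσ
  have hs : F.ExAct (F.σ ^ i) (exS^[i]) := by
    clear e hi
    induction i with
    | zero => exact fun a ha => ⟨ha, by simp⟩
    | succ i ih =>
      intro a ha
      rw [Function.iterate_succ_apply']
      refine ⟨(F.ex_S _ (ih a ha).1).1, ?_⟩
      rw [← (F.ex_S _ (ih a ha).1).2, ← (ih a ha).2, pow_succ']; group
  have key : ∀ a < 16, f a = g ((if x < 16 then id else exB) (exS^[i] a)) := by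
    intro a ha
    have h2 := F.ex_T hx _ (hs a ha).1
    refine F.ex_inj (by have := (hn a ha).1; omega) (by have := (hm _ h2.1).1; omega) ?_
    rw [← (hn a ha).2, ← (hm _ h2.1).2, ← h2.2, ← (hs a ha).2]
    have e' := e _ (F.mem_X1.2 ⟨a, ha, rfl⟩)
    calc _ = m * (m⁻¹ * n * F.j a * (m⁻¹ * n)⁻¹) * m⁻¹ := by group
      _ = _ := by rw [e']; group
  have k2 := key 2 (by decide)
  have k4 := key 4 (by decide)
  have k8 := key 8 (by decide)
  simp only [exOk, exE, k2, k4, k8]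
  by_cases hx' : x < 16 <;> interval_cases i <;> simp [hx']

end Fr

/-- the orbit is not `A \ U`, `U = {0, 2, 8, 10}` -/
theorem Fr.not12 (F : Fr G md) (hm : md ≤ 2) :
    ¬ ∀ a < 16, F.j a ∈ F.orb 1 (F.j 1) ↔ (0xfafa : ℕ).testBit a := by
  intro hO
  obtain ⟨n, hn, e⟩ := (hO 4 (by decide)).2 (by decide)
  obtain ⟨m, hm, e'⟩ := (hO 7 (by decide)).2 (by decide)
  obtain ⟨q, hq, r, hr, s, hs, hf⟩ := F.ex_lin hn (by decide) e
  obtain ⟨q', hq', r', hr', s', hs', hg⟩ := F.ex_lin hm (by decide) e'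
  have f : F.ExW _ := ⟨n, hf⟩
  have g : F.ExW _ := ⟨m, hg⟩
  have S := F.ex_WS
  have B := F.ex_WB
  have h1 := exAll_spec ex_chk12 hq hr hs
  have c1 : exC1 (exLin 4 q r s) = true := by
    simp only [exC1, f.pres hO, f.inj, f.ok (B.comp f), (f.comp f).ok (B.comp (S.comp (f.comp f))),
      (f.comp f).ok (S.comp (B.comp (f.comp f))), (f.comp (S.comp f)).ok (S.comp (f.comp f)),
      (f.comp f).ok (S.comp (f.comp (S.comp f))), Bool.and_self]
  rw [c1, Bool.not_true, Bool.false_or] at h1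
  have h2 := exAll_spec h1 hq' hr' hs'
  simp only [g.ok (S.comp g), g.pres hO, g.inj, g.ok (f.comp g), Bool.and_self, Bool.not_true] at h2
  exact absurd h2 (by decide)

/-- the orbit is not `{t, s, s e, s e z, t s, t s e, t s e z}` -/
theorem Fr.not7 (F : Fr G md) (hm : md ≤ 2) :
    ¬ ∀ a < 16, F.j a ∈ F.orb 1 (F.j 1) ↔ (0xf032 : ℕ).testBit a := by
  intro hO
  obtain ⟨n, hn, e⟩ := (hO 4 (by decide)).2 (by decide)
  obtain ⟨q, hq, r, hr, s, hs, hf⟩ := F.ex_lin hn (by decide) e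
  have f : F.ExW _ := ⟨n, hf⟩
  have h1 := exAll_spec ex_chk7 hq hr hs
  simp only [f.pres hO, f.inj, Bool.and_self, Bool.not_true] at h1
  exact absurd h1 (by decide)

/-- an element of `N(T₁) ∩ N(A)` moving `t` to `w` or `t w` normalises `⟨t, w⟩` -/
theorem Fr.nrm_tw (F : Fr G md) (hm : md ≤ 2) {n : G} (hT : n ∈ normalizer (F.X 3 : Set G))
    (hA : n ∈ normalizer (F.X 1 : Set G)) (h : n * F.j 1 * n⁻¹ = F.j 6 ∨ n * F.j 1 * n⁻¹ = F.j 7) :
    n * F.j 6 * n⁻¹ = F.j 1 ∨ n * F.j 6 * n⁻¹ = F.j 6 ∨ n * F.j 6 * n⁻¹ = F.j 7 := by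
  obtain ⟨p, hp, e⟩ : ∃ p, (p = 6 ∨ p = 7) ∧ n * F.j 1 * n⁻¹ = F.j p := by
    rcases h with h | h
    exacts [⟨6, Or.inl rfl, h⟩, ⟨7, Or.inr rfl, h⟩]
  obtain ⟨q, hq, r, hr, s, hs, hf⟩ := F.ex_lin hA (by omega) e
  have f : F.ExW _ := ⟨n, hf⟩
  have h1 := exAll_spec (ex_chkW p hp) hq hr hs
  simp only [f.ok (F.ex_WS.comp f), f.inj, Bool.and_self, Bool.not_true, Bool.false_or, Bool.or_eq_true,
    beq_iff_eq] at h1
  rw [(hf 6 (by decide)).2]
  rcases h1 with (h | h) | h <;> simp [h]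

end CfsgLib.L3E
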