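import Cfsg.Agent.Lib.L3E.Rules

/-! L3E: consequences of the surviving leaf -/

set_option autoImplicit false
set_option maxRecDepth 100000

namespace CfsgLib.L3E

open Subgroup CfsgLib.Tech CfsgLib.MOrb Cfsg

variable {G : Type*} [Group G] [Finite G]

/-- the codes of the elements of order at most 2 -/
def omL : List ℕ := [0, 1, 2, 3, 4, 5, 6, 7, 8, 9, 10, 11, 12, 13, 14, 15, 16, 17, 18, 19, 20, 21, 22, 23, 32, 34, 36, 38, 40, 42, 44, 46, 48, 50, 52, 54, 57, 59, 61, 63, 65, 67, 69, 71, 73, 75, 77, 79, 81, 83, 85, 87, 96, 98, 100, 102, 104, 106, 108, 110, 112, 114, 116, 118, 129, 131, 133, 135, 137, 139, 141, 143, 160, 162, 164, 166, 168, 170, 172, 174, 193, 195, 197, 199, 201, 203, 205, 207, 224, 226, 228, 230, 232, 234, 236, 238, 256, 258, 264, 266, 272, 274, 284, 286, 289, 291, 297, 299, 305, 307, 317, 319, 325, 327, 333, 335, 341, 343, 345, 347, 352, 354, 360, 362, 368, 370, 380, 382, 388, 390, 396, 398, 401, 403, 413, 415, 421, 423, 429,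 431, 436, 438, 440, 442, 513, 515, 521, 523, 548, 550, 556, 558, 609, 611, 617, 619, 641, 643, 649, 651, 676, 678, 684, 686, 741, 743, 749, 751, 773, 775, 781, 783, 800, 802, 808, 810, 869, 871, 877, 879, 897, 899, 905, 907, 932, 934, 940, 942, 960, 962, 968, 970]

theorem om_all : allN 1024 (fun x => orr (ne (mul lL x x) 0) (memL x omL)) = true := by decide +kernel
theorem om_c0 : allL omL (fun v => orr (lt v 16) (orr (Nat.ble 100 v) (cntB omL (com lL v) 64))) = true := by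
  decide +kernel
theorem om_c1 : allL omL (fun v => orr (lt v 100) (orr (Nat.ble 270 v) (cntB omL (com lL v) 64))) = true := by
  decide +kernel
theorem om_c2 : allL omL (fun v => orr (lt v 270) (orr (Nat.ble 430 v) (cntB omL (com lL v) 64))) = true := by
  decide +kernel
theorem om_c3 : allL omL (fun v => orr (lt v 430) (orr (Nat.ble 700 v) (cntB omL (com lL v) 64))) = true := by
  decide +kernel
theorem om_c4 : allL omL (fun v => orr (lt v 700) (orr (Nat.ble 1024 v) (cntB omL (com lL v) 64))) = true := by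
  decide +kernel

theorem om_cnt {v : ℕ} (hv : v ∈ omL) (h : 16 ≤ v) (h' : v < 1024) : (omL.filter (com lL v)).length < 64 := by
  have h0 := allL_iff.1 om_c0 v hv
  have h1 := allL_iff.1 om_c1 v hv
  have h2 := allL_iff.1 om_c2 v hv
  have h3 := allL_iff.1 om_c3 v hv
  have h4 := allL_iff.1 om_c4 v hv
  simp only [orr_iff, lt_iff, Nat.ble_eq] at h0 h1 h2 h3 h4
  refine e12_cnt ?_
  by_contra hn
  simp only [hn, or_false] at h0 h1 h2 h3 h4
  omega

/-- no elementary abelian subgroup of order 64 -/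
theorem no_e64 {φ : ℕ → G} (R : Rep lL φ) (hS : IsSylowIn 2 (img lL φ) ⊤) (X : Subgroup G) (h : ∀ v ∈ X, v * v = 1) :
    Nat.card X ≠ 64 := fun hc => by
  have := Fact.mk Nat.prime_two
  obtain ⟨g, -, hg⟩ := hS.exists_cj_le (Gold.isPGroup_of_elem h) le_top
  rw [← card_cj g] at hc
  have h' : ∀ v ∈ Tech.cj g X, v * v = 1 := by
    rintro _ ⟨x, hx, rfl⟩
    rw [← map_mul, h x hx, map_one]
  generalize Tech.cj g X = Y at hg hc h'
  have k : ∀ y ∈ Y, ∃ x < 1024, x ∈ omL ∧ φ x = y := fun y hy => by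
    obtain ⟨x, hx, rfl⟩ := R.mem_img.1 (hg hy)
    have h1 := allN_iff.1 om_all x hx
    rw [orr_iff, ne_iff, memL_iff] at h1
    exact ⟨x, hx, h1.resolve_left fun e => e ((R.eq_one (R.wf.lt hx hx)).1 ((R.map x hx x hx).trans (h' _ hy))), rfl⟩
  have le : ∀ L : List ℕ, (∀ y ∈ Y, ∃ x ∈ L, φ x = y) → 64 ≤ L.length := fun L hL => by
    classical
    rw [← hc, ← SetLike.coe_sort_coe, Nat.card_coe_set_eq]
    refine (Set.ncard_le_ncard (t := (L.toFinset.image φ : Set G)) (fun y hy => by simpa using hL y hy)).trans ?_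
    rw [Set.ncard_coe_finset]
    exact Finset.card_image_le.trans (List.toFinset_card_le L)
  by_cases h1 : ∃ v < 1024, 16 ≤ v ∧ v ∈ omL ∧ φ v ∈ Y
  · obtain ⟨v, v1, v2, v3, v4⟩ := h1
    refine (om_cnt v3 v2 v1).not_ge (le _ fun y hy => ?_)
    obtain ⟨x, x1, x2, rfl⟩ := k y hy
    exact ⟨x, List.mem_filter.2 ⟨x2, (R.com_iff v1 x1).2 (Sect.comm_of_sq h' v4 hy)⟩, rfl⟩
  · refine absurd (le (List.range 16) fun y hy => ?_) (by simp)
    obtain ⟨x, x1, x2, rfl⟩ := k y hy
    exact ⟨x, List.mem_range.2 (lt_of_not_ge fun e => h1 ⟨x, x1, e, x2, hy⟩), rfl⟩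

theorem Fr.Out.props {md : ℕ} {F : Fr G md} (h : F.Out) : F.D (F.j 5) ∧ F.j 1 ∉ F.K ∧
    ∀ X : Subgroup G, (∀ v ∈ X, v * v = 1) → Nat.card X ≠ 64 := by
  obtain ⟨φ, v, hS, hK, -, hf⟩ := h
  refine ⟨?_, ?_, no_e64 v.rep hS⟩
  · have h1 : lk fcL 5 = 1 := by decide +kernel
    have := hf 5 (by norm_num) (by omega)
    rw [h1, v.base 5 (by norm_num), v.base 1 (by norm_num)] at this
    exact this.symm
  · rw [← v.base 1 (by norm_num), hK 1 (by norm_num)]
    decide +kernel

end CfsgLib.L3E
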