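import Cfsg.Agent.Lib.L3E.Box
import Cfsg.Agent.Lib.L33.Rho

/-! L3E: the frame of the engine from the frame `L33.Fr` -/

set_option autoImplicit false
set_option linter.unusedSectionVars false
set_option synthInstance.maxSize 100000
set_option synthInstance.maxHeartbeats 200000

namespace CfsgLib.L3E

open Subgroup CfsgLib.Tech CfsgLib.MOrb Cfsg CfsgLib.L33.Fr.Nrm

variable {G : Type*} [Group G] [Finite G] (D : L33.Fr G)

/-- `L33.Fr.exists_th0` with the relation between the frames -/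
theorem th0 : ∃ D' : L33.Fr G, ∃ θ, D'.Th0 θ ∧ D'.t = D.t ∧ (D'.τ = D.τ ∨ (D.τ ≠ 1 ∧ D'.τ = D.z * D.τ)) := by
  obtain ⟨θ, hL, (h1 : θ * D.z * θ⁻¹ = D.e), (h2 : θ * D.e * θ⁻¹ = D.e * D.z)⟩ := D.θ0
  have h0 : θ * D.t = D.t * θ := mem_centralizer_singleton_iff.1 (D.LH hL)
  obtain ⟨n, hn, hA⟩ := D.sylA.frattini (g := θ) (norm_cent fun c hc => by
    have a1 := hc D.z (by simp)
    have a2 := hc D.e (by simp)
    rintro _ (rfl | rfl | rfl)
    · rw [fix h0]; exact hc _ (by simp)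
    · rwa [h1]
    · rw [h2]; exact com_mul a2 a1)
  have nz := (hn D.z (by simp)).symm
  have ne := (hn D.e (by simp)).symm
  have g0 : n * θ * D.t = D.t * (n * θ) := com_mul (hn D.t (by simp)).symm h0
  have g1 : n * θ * D.z * (n * θ)⁻¹ = D.e := by rw [cj2, h1, fix ne]
  have g2 : n * θ * D.e * (n * θ)⁻¹ = D.e * D.z := by rw [cj2, h2, cjm, fix ne, fix nz]
  generalize n * θ = φ at hA g0 g1 g2
  have g3 := θ_ez g1 g2
  obtain ⟨v, hv, e⟩ := conj_τ_eq hA g0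
  by_cases hτ : D.τ = 1
  · exact ⟨D, φ, ⟨g0, by simp [hτ], g1, g2⟩, rfl, .inl rfl⟩
  have key := fix (D.cent_of_norm (mul_mem (mul_mem (mul_mem hA (f_norm D)) hA) (f_norm D))
    (com_mul (com_mul (com_mul g0 D.c_tf.symm) g0) D.c_tf.symm)
    (com (by rw [cj2, cj2, cj2, f_z, g1, f_e, g3])) (com (by rw [cj2, cj2, cj2, f_e, g3, f_z, g1])))
  rw [cj2, cj2, cj2, fix D.c_τf.symm, e, cjm D.f, fix D.c_τf.symm, cjm, e, mul_assoc D.τ, mul_eq_left] at key
  rcases D.mem_E.1 hv with rfl | rfl | rfl | rfl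
  · exact ⟨D, φ, ⟨g0, com (by rw [e, mul_one]), g1, g2⟩, rfl, .inl rfl⟩
  · rw [f_z, g1, D.c_ze] at key
    exact absurd key (ez1 D)
  · rw [f_e, g3] at key
    exact absurd key (ez1 D)
  · obtain ⟨D', a1, a2, a3, a4, -⟩ := D.exists_ch hτ (k := D.z) (D.mem_V.2 (by simp))
    have a5 : D'.z = D.z := by rw [L33.Fr.z, a2]; rfl
    refine ⟨D', φ, ⟨by rwa [a1], com ?_, by rwa [a5, a3], by rwa [a5, a3]⟩, a1, .inr ⟨hτ, a4⟩⟩
    rw [a4, cjm, g1, e, ← mul_assoc, ← mul_assoc, ← D.c_τe, mul_assoc D.τ, D.ee, mul_one, D.c_τz]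

/-- `C(t) / L` is abelian -/
theorem comm_mem_L {c s : G} (hc : c ∈ centralizer {D.t}) (hs : s ∈ centralizer {D.t}) : c * s * c⁻¹ * s⁻¹ ∈ D.L := by
  have k : ∀ g ∈ centralizer {D.t}, ∃ r ∈ ({1, D.t, D.τ, D.t * D.τ} : Set G), r * g ∈ D.L := fun g hg => by
    rcases D.HL g hg with h | h | h | h
    exacts [⟨1, by simp, by rwa [one_mul]⟩, ⟨_, by simp, h⟩, ⟨_, by simp, h⟩, ⟨_, by simp, h⟩]
  have c1 : Commute D.t D.τ := D.c_tτ
  have m : ∀ r ∈ ({1, D.t, D.τ, D.t * D.τ} : Set G), Commute r D.t ∧ Commute r D.τ := by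
    rintro _ (rfl | rfl | rfl | rfl)
    exacts [⟨.one_left _, .one_left _⟩, ⟨.refl _, c1⟩, ⟨c1.symm, .refl _⟩,
      ⟨(Commute.refl _).mul_left c1.symm, c1.mul_left (.refl _)⟩]
  obtain ⟨r, hr, h1⟩ := k c hc
  obtain ⟨q, hq, h2⟩ := k s hs
  have rq : Commute r q := by
    rcases hq with rfl | rfl | rfl | rfl
    exacts [.one_right _, (m r hr).1, (m r hr).2, (m r hr).1.mul_right (m r hr).2]
  have r1 : r⁻¹ ∈ centralizer {D.t} := inv_mem (mem_centralizer_singleton_iff.2 (m r hr).1)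
  have q1 : q⁻¹ ∈ centralizer {D.t} := inv_mem (mem_centralizer_singleton_iff.2 (m q hq).1)
  have := mul_mem (mul_mem (D.Ln _ r1 _ h1) (D.Ln _ (mul_mem r1 q1) _ (mul_mem h2 (inv_mem h1))))
    (D.Ln _ q1 _ (inv_mem h2))
  convert this using 1
  calc _ = c * s * c⁻¹ * r⁻¹ * q * (q⁻¹ * r) * s⁻¹ := by group
    _ = _ := by rw [← rq.inv_right.eq]; group

/-- the exponent of `x` -/
def kkT : ℕ := 0x7007003003003003007007005005001001001001005005007007003003003003007007005005001001001001005005002002006006006006002002006006002002002002006006000000004004004004000000000000004004004004000000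

def cA (n : ℕ) : ZMod 2 := (n % 2 : ℕ)
def cB (n : ℕ) : ZMod 2 := ((n / 4 + n / 32) % 2 : ℕ)
def cK (n : ℕ) : ZMod 8 := (lk kkT n : ℕ)
def cC (n : ℕ) : ZMod 2 := ((n / 8 + n / 16 + n / 32) % 2 : ℕ)

/-- `t, z, s = τ z, e, b = f, ρ = i τ` -/
def jj (n : ℕ) : G := D.w (cA n) (cB n) (cK n) (cC n)

theorem jj_rep (hτ : D.τ ≠ 1) : Rep (lvT 1) (jj D) := by
  have hδ := D.δ_one.2 hτ
  refine ⟨wf_lvT 1, fun x hx y hy => ?_, fun x hx y hy e => ?_⟩
  · rw [jj, jj, jj, D.w_mul', D.w_iff, hδ]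
    exact (by decide +kernel : ∀ x < 64, ∀ y < 64, cA (mul (lvT 1) x y) = cA x + cA y ∧
      1 * cB (mul (lvT 1) x y) = 1 * (cB x + cB y) ∧
      cK (mul (lvT 1) x y) = cK x * 5 ^ (1 * cB y).val + cK y * 3 ^ (cC x).val ∧
      cC (mul (lvT 1) x y) = cC x + cC y) x hx y hy
  · rw [jj, jj, D.w_iff, hδ] at e
    exact (by decide +kernel : ∀ x < 64, ∀ y < 64,
      cA x = cA y ∧ 1 * cB x = 1 * cB y ∧ cK x = cK y ∧ cC x = cC y → x = y) x hx y hy e

theorem jj_t : jj D 1 = D.t := D.w_t.symm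

theorem kcl_one : ∀ a < 64, kcl 1 a = if a = 0 then 0 else if a = 1 then 1 else (cA a).val + 2 * (cB a).val +
    8 * (if mul (lvT 1) a a = 0 then 1 else if mul (lvT 1) (mul (lvT 1) a a) (mul (lvT 1) a a) = 0 then 2 else 3) := by
  decide +kernel

theorem exists_fr {θ : G} (hθ : D.Th0 θ) (hτ : D.τ ≠ 1) (K : Subgroup G) [hK : K.Normal] [hs : IsSimpleGroup K]
    (hG : ∀ g, g ∈ K ∨ D.t * g ∈ K) (hC : centralizer (K : Set G) = ⊥) (hr : ¬ SectionalPRankLE 2 4 K) :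
    ∃ F : Fr G 1, F.K = K ∧ F.j 1 = D.t ∧ F.j 4 = D.τ * D.z ∧ F.j 5 = D.t * (D.τ * D.z) := by
  have hδ := D.δ_one.2 hτ
  have R := jj_rep D hτ
  have hσ : ∀ a < 16, θ * jj D a * θ⁻¹ = jj D (lk sgT a) := fun a ha => by
    obtain ⟨c, e1, e2⟩ := (by decide +kernel : ∀ a < 16, ∃ c : ZMod 2, cK a = 4 * c.val ∧ cA a = cA (lk sgT a) ∧
      cB a = cB (lk sgT a) ∧ 4 * ((cC a).val : ZMod 8) = cK (lk sgT a) ∧ c + cC a = cC (lk sgT a)) a ha
    rw [jj, e1, ← D.w_u, hθ.conj_u, D.w_u, jj, ← e2.1, ← e2.2.1, ← e2.2.2.1, ← e2.2.2.2]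
  have hρ : ∀ a < 32, jj D 32 * jj D a * (jj D 32)⁻¹ = jj D (lk rhoT a) := fun a ha => by
    obtain ⟨e1, e2⟩ := (by decide +kernel : ∀ a < 32, lk rhoT a < 64 ∧
      mul (lvT 1) 32 a = mul (lvT 1) (lk rhoT a) 32) a ha
    rw [mul_inv_eq_iff_eq_mul, ← R.map 32 (by decide) a (ha.trans (by decide)), e2, R.map _ e1 32 (by decide)]
  have ρ2 : (jj D 32)⁻¹ = jj D 32 := inv_eq_of_mul_eq_one_right (by
    rw [← R.map 32 (by decide) 32 (by decide), R.eq_one (by decide +kernel)]; decide +kernel)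
  have j4 : jj D 4 = D.τ * D.z := by rw [jj, D.w_τ, D.w_z, D.w_mul', D.w_iff, hδ]; decide +kernel
  have j32 : jj D 32 = D.τ * D.w 0 0 5 1 := by rw [jj, D.w_τ, D.w_mul', D.w_iff, hδ]; decide +kernel
  have j5 : jj D 5 = D.t * jj D 4 := by rw [← jj_t, ← R.map 1 (by decide) 4 (by decide)]; rfl
  have j33 : jj D 33 = D.t * jj D 32 := by rw [← jj_t, ← R.map 1 (by decide) 32 (by decide)]; rfl
  have hS : img (lvT 1) (jj D) = closure {D.t, D.τ, D.x, D.e} := by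
    refine le_antisymm ((closure_le _).2 ?_) ((closure_le _).2 ?_)
    · rintro _ ⟨a, -, rfl⟩
      exact D.w_mem_S _ _ _ _
    · rintro _ (rfl | rfl | rfl | rfl)
      exacts [subset_closure ⟨1, by decide, jj_t D⟩, subset_closure ⟨6, by decide, D.w_τ.symm⟩,
        subset_closure ⟨52, by decide, D.w_x.symm⟩, subset_closure ⟨8, by decide, D.w_e.symm⟩]
  refine ⟨{ j := jj D, rep := R, K := K, nK := hK, sK := hs, cK := hC, gK := eq_top_iff.2 fun g _ => ?_, rk := hr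
            syl := by rw [hS, jj_t]; exact D.syl
            σ := θ, τ := jj D 32 * θ * jj D 32, hσ := hσ, hτ := fun a ha h => ?_
            nof := fun c hc a ha b hb e => ?_, fus := fun _ => ?_ }, rfl, jj_t D, j4, j5.trans (by rw [j4])⟩
  · rw [jj_t]
    rcases hG g with h | h
    · exact mem_sup_left h
    · exact (mul_mem_cancel_left (mem_sup_right (mem_zpowers D.t))).1 (mem_sup_left h)
  · obtain ⟨e1, e2, e3⟩ := (by decide +kernel : ∀ a < 32, lk taT a < 32 → lk rhoT a < 16 ∧ lk sgT (lk rhoT a) < 32 ∧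
      lk rhoT (lk sgT (lk rhoT a)) = lk taT a) a ha h
    rw [← e3, ← hρ _ e2, ← hσ _ e1, ← hρ a ha]
    group
  · rw [jj_t] at hc
    have mC : ∀ a, jj D a ∈ centralizer {D.t} := fun a => D.syl.le (D.w_mem_S _ _ _ _)
    have h1 := comm_mem_L D (mem_centralizer_singleton_iff.2 hc) (mC a)
    rw [e, jj, jj, D.w_inv, D.w_mul', D.w_mem_L, hδ, one_mul] at h1
    have h2 : cA b = cA a ∧ cB b = cB a := by
      revert h1; generalize cA a = p, cA b = q, cB a = r, cB b = s; revert p q r s; decide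
    have k : ∀ a < sz (lvT 1), ∀ b < sz (lvT 1), c * jj D a * c⁻¹ = jj D b → ((a = 0 ↔ b = 0) ∧
        c * jj D (mul (lvT 1) a a) * c⁻¹ = jj D (mul (lvT 1) b b)) := fun a ha b hb e =>
      ⟨by rw [← R.eq_one ha, ← R.eq_one hb, ← e, conj_eq_one_iff], by
        rw [R.map a ha a ha, R.map b hb b hb, ← e, conj_mul]⟩
    have k1 := k a ha b hb e
    have k2 := k _ (R.wf.lt ha ha) _ (R.wf.lt hb hb) k1.2
    have k3 := k _ (R.wf.lt (R.wf.lt ha ha) (R.wf.lt ha ha)) _ (R.wf.lt (R.wf.lt hb hb) (R.wf.lt hb hb)) k2.2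
    have k4 : a = 1 ↔ b = 1 := by
      constructor <;> rintro rfl
      · exact R.inj _ hb _ ha (by rw [← e, jj_t, hc.eq, mul_inv_cancel_right])
      · refine R.inj _ ha _ hb (mul_left_cancel (a := c) (mul_right_cancel (b := c⁻¹) ?_))
        rw [e, jj_t, hc.eq, mul_inv_cancel_right]
    rw [kcl_one a ha, kcl_one b hb, h2.1, h2.2]
    simp only [k1.1, k2.1, k3.1, k4]
  · obtain ⟨g, g1, g2⟩ := hθ.fus_τ hτ (d := D.z) (D.E_le_Dg (z_E D)) (by
      rw [← j4, ← R.map 4 (by decide) 4 (by decide), R.eq_one (by decide +kernel)]; decide +kernel)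
    obtain ⟨h, h1, h2⟩ := hθ.fus_τ hτ (d := D.w 0 0 5 1) (D.mem_Dg.2 ⟨_, _, rfl⟩) (by
      rw [← j32]; exact mul_eq_one_iff_inv_eq.2 ρ2)
    rw [j5, j33, j4, j32, ← g2, ← h2]
    refine ⟨isConj_iff.2 ⟨h * g⁻¹, by group⟩, isConj_iff.2 ⟨h * g⁻¹, ?_⟩⟩
    rw [cjm, fix (com_mul h1 (com_inv g1))]
    group

/-- the case `τ = 1` -/
theorem sr_of_one (hτ : D.τ = 1) (K : Subgroup G) [hK : K.Normal] : SectionalPRankLE 2 4 K := by
  have := Fact.mk Nat.prime_two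
  obtain ⟨P, hP, le⟩ := exists_isSylowIn_ge D.sylA.pgroup le_top
  refine sr_of_le (sylK hK hP) inf_le_left (sr_e8 hP.pgroup (le (t_A D)) (le (z_A D)) (le (e_A D)) D.tt D.zz D.ee
    D.c_tz D.c_te D.c_ze fun x hx h1 h2 h3 => ?_)
  have h5 : x ∈ P ⊓ centralizer {D.t, D.z, D.e} := ⟨hx, mem_centralizer_iff.2 (by
    rintro _ (rfl | rfl | rfl)
    exacts [h1.symm, h2.symm, h3.symm])⟩
  have h4 : x ∈ D.A := (eq_of_le_of_card_ge (le_inf le D.sylA.le)
    (D.sylA.card_le hP.pgroup.to_inf_left inf_le_right)).ge h5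
  refine (closure_le _).2 ?_ h4
  rintro _ (rfl | rfl | rfl | rfl)
  exacts [subset_closure (by simp), hτ ▸ one_mem _, subset_closure (by simp), subset_closure (by simp)]

end CfsgLib.L3E
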