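import Cfsg.Agent.Lib.L3E.E3
import Cfsg.Agent.Lib.L3E.E4
import Cfsg.Agent.Lib.L3E.E5
import Cfsg.Agent.Lib.L3E.E6
import Cfsg.Agent.Lib.L3E.E7
import Cfsg.Agent.Lib.L3E.E8
import Cfsg.Agent.Lib.L3E.E9
import Cfsg.Agent.Lib.L3E.E10
import Cfsg.Agent.Lib.L3E.E11
import Cfsg.Agent.Lib.L3E.E12
import Cfsg.Agent.Lib.L3E.E13
import Cfsg.Agent.Lib.L3E.E14
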