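import Cfsg.Agent.Lib.L3E.Pat
import Cfsg.Agent.Lib.L3E.Frm
import Cfsg.Agent.Lib.L3E.Fin
import Cfsg.Agent.Lib.L3E.G.TM10A
import Cfsg.Agent.Lib.L3E.G.TP10A

/-! L3E: the 2-local analysis for a standard component `L₃(3)` when the sectional 2-rank exceeds 4 -/

set_option autoImplicit false

namespace CfsgLib.L3E

open Subgroup Cfsg

variable {G : Type*} [Group G] [Finite G]

theorem Cf.out {c : Cfg} (hc : c ∈ cfgs) (F : Cf G c) : F.toFr.Out := by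
  simp only [cfgs, List.mem_cons, List.not_mem_nil, or_false] at hc
  rcases hc with rfl | rfl
  · exact TM10.main G F F.j (root_valid F.toFr (by decide)) trivial
  · exact TP10.main G F F.j (root_valid F.toFr (by decide)) trivial

/-- the surviving configuration: a frame with the explicit Sylow 2-subgroup `Fr.Out` -/
theorem Fr.out (F : Fr G 1) : ∃ c ∈ cfgs, ∃ F' : Cf G c, F'.K = F.K ∧ F'.j 1 = F.j 1 ∧
    (F'.j 5 = F.j 5 ∨ F'.j 5 = F.j 4) ∧ F'.toFr.Out :=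
  let ⟨c, hc, F', h1, h2, h3⟩ := F.pat
  ⟨c, hc, F', h1, h2, h3, Cf.out hc F'⟩

theorem leaf (D : L33.Fr G) (K : Subgroup G) [K.Normal] [IsSimpleGroup K] (hG : ∀ g, g ∈ K ∨ D.t * g ∈ K)
    (hC : centralizer (K : Set G) = ⊥) (hr : ¬ Sect.SR 16 K) :
    D.τ ≠ 1 ∧ ¬ D.Sm ∧ D.t ∉ K ∧ ∀ X : Subgroup G, (∀ v ∈ X, v * v = 1) → Nat.card X ≠ 64 := by
  have hr' : ¬ SectionalPRankLE 2 4 K := fun h => hr (Sect.sr_iff.1 h)
  have hτ : D.τ ≠ 1 := fun h => hr' (sr_of_one D h K)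
  obtain ⟨D', θ, hθ, e1, e2⟩ := th0 D
  have hτ' : D'.τ ≠ 1 := fun h => hr' (sr_of_one D' h K)
  obtain ⟨F, f1, f2, f4, f5⟩ := exists_fr D' hθ hτ' K (e1 ▸ hG) hC hr'
  obtain ⟨c, -, F', g1, g2, g3, ho⟩ := F.out
  obtain ⟨p1, p2, p3⟩ := ho.props
  rw [Fr.D, g2, f2, e1] at p1
  rw [g2, f2, e1, g1, f1] at p2
  refine ⟨hτ, fun hm => ?_, p2, p3⟩
  obtain ⟨g, h1, h2⟩ : ∃ g, g * D.t = D.t * g ∧ g * D.τ * g⁻¹ = D'.τ * D'.z := by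
    rcases e2 with e | ⟨-, e⟩
    · exact ⟨D'.x, e1 ▸ D'.c_tx.symm, e ▸ D'.xτ hτ'⟩
    · refine ⟨D'.x * D.x, L33.Fr.Nrm.com_mul (e1 ▸ D'.c_tx.symm) D.c_tx.symm, ?_⟩
      rw [L33.Fr.Nrm.cj2, D.xτ hτ, D.c_τz, ← e, D'.xτ hτ']
  rcases g3 with e | e <;> rw [e] at p1
  · refine hm.2 hτ (p1.trans (isConj_iff.2 ⟨g, ?_⟩).symm)
    rw [f5, e1, L33.Fr.Nrm.cjm, L33.Fr.Nrm.fix h1, h2]
  · exact hm.1 (p1.trans (isConj_iff.2 ⟨g, h2.trans f4.symm⟩).symm)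

end CfsgLib.L3E
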