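import Cfsg.Agent.Lib.L3E.Ex
import Cfsg.Agent.Lib.L3E.Sym

/-! PATR: the patterns in the modes 1 and 2 (plans/DIH8.md) -/

set_option autoImplicit false
set_option linter.unusedSectionVars false
set_option maxHeartbeats 400000

namespace CfsgLib.L3E

open Subgroup CfsgLib.Tech CfsgLib.MOrb Cfsg

variable {G : Type*} [Group G] [Finite G] {md : ℕ}

/-- `L` represents the labels of the involutions, `dp` only has labels of involutions -/
def PatOk (md dp : ℕ) (L : List ℕ) : Prop :=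
  ∀ a < sz (lvT md), (dp.testBit (kcl md a) = true → mul (lvT md) a a = 0 ∧ a ≠ 0) ∧
    (mul (lvT md) a a = 0 → a ≠ 0 → ∃ b ∈ L, b < sz (lvT md) ∧ kcl md a = kcl md b)

noncomputable instance decPatOk (md dp : ℕ) (L : List ℕ) : Decidable (PatOk md dp L) := by
  unfold PatOk; infer_instance

theorem Fr.patR_of (F : Fr G md) (h : md ≤ 2) {dp : ℕ} {L : List ℕ} (hL : PatOk md dp L)
    (hb : ∀ b ∈ L, F.D (F.j b) ↔ dp.testBit (kcl md b)) : F.Pat dp := fun a ha => by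
  constructor
  · intro hd
    obtain ⟨h1, h2⟩ := F.D_sq ha hd
    obtain ⟨b, h3, h4, h5⟩ := (hL a ha).2 h1 h2
    rw [h5]
    exact (hb b h3).1 (IsConj.trans hd (F.conj_of_kcl h ha h4 h1 h5))
  · intro hd
    obtain ⟨h1, h2⟩ := (hL a ha).1 hd
    obtain ⟨b, h3, h4, h5⟩ := (hL a ha).2 h1 h2
    rw [h5] at hd
    exact IsConj.trans ((hb b h3).2 hd) (F.conj_of_kcl h ha h4 h1 h5).symm

theorem patR_sz (h : md = 1 ∨ md = 2) : sz (lvT md) = 64 := by rcases h with rfl | rfl <;> rfl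

theorem Fr.patR_D {h : ℕ} (F : Fr G md) {x : G} (hx : x ∈ F.orb h (F.j 1)) : F.D x :=
  let ⟨n, _, e⟩ := hx; isConj_iff.2 ⟨n, e⟩

/-- in the `ρ`-modes the conjugates of `t` in `A` (in `B`) form one orbit -/
theorem Fr.patR_orb (F : Fr G md) (hm : md = 1 ∨ md = 2) {h : ℕ} (hh : h = 1 ∨ h = 2) {x : G} :
    x ∈ F.orb h (F.j 1) ↔ x ∈ F.X h ∧ F.D x := by
  constructor
  · intro hx
    refine ⟨?_, F.patR_D hx⟩
    obtain ⟨n, hn, rfl⟩ := hx
    refine conj_mem_of_mem_normalizer hn (subset_closure ⟨1, ?_, rfl⟩)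
    rcases hh with rfl | rfl <;> simp [xg]
  · rintro ⟨hx, hd⟩
    obtain ⟨g, h1, h', h2, h3⟩ := F.conjX (by omega) hh hx hd
    obtain rfl : h' = h := h2.resolve_right fun e => by omega
    refine ⟨g⁻¹, inv_mem (mem_normalizer_iff.2 h3), ?_⟩
    rw [← h1]; group

/-- the orbit masks belonging to the pattern `dp` -/
def OrbOk (md dp oA oB oT : ℕ) : Prop :=
  oA < 2 ^ 32 ∧ oB < 2 ^ 32 ∧ oT < 2 ^ 32 ∧ ∀ a < 32,
    (oA.testBit a = true ↔ a < 16 ∧ dp.testBit (kcl md a) = true) ∧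
    (oB.testBit a = true ↔ lk taT a < 32 ∧ dp.testBit (kcl md a) = true) ∧
    (oT.testBit a = true ↔ a < 8 ∧ dp.testBit (kcl md a) = true)

noncomputable instance decOrbOk (md dp oA oB oT : ℕ) : Decidable (OrbOk md dp oA oB oT) := by
  unfold OrbOk; infer_instance

theorem Fr.patR_cf (F : Fr G md) (hm : md = 1 ∨ md = 2) {dp oA oB oT : ℕ} (hp : F.Pat dp)
    (ho : OrbOk md dp oA oB oT) : ∃ F' : Cf G ⟨md, dp, oA, oB, oT⟩, F'.K = F.K ∧ F'.j = F.j := by
  obtain ⟨h1, h2, h3, h4⟩ := ho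
  have hs := patR_sz hm
  have hi : ∀ {a b : ℕ}, a < 32 → b < 32 → F.j a = F.j b → a = b := fun ha hb e =>
    F.rep.inj _ (by omega) _ (by omega) e
  have key : ∀ {h ob : ℕ}, ob < 2 ^ 32 → (∀ a < 32, F.j a ∈ F.orb h (F.j 1) ↔ ob.testBit a = true) →
      F.Orb h ob := fun {h ob} hb H a => by
    by_cases ha : a < 32
    · rw [← H a ha]; exact ⟨fun e => e.2, fun e => ⟨ha, e⟩⟩
    · rw [Nat.testBit_lt_two_pow (hb.trans_le (Nat.pow_le_pow_right (by norm_num) (by omega)))]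
      simp [ha]
  refine ⟨{ toFr := F, pat := hp, orb := ?_ }, rfl, rfl⟩
  rintro h (rfl | rfl | rfl)
  · refine key (ob := oA) h1 fun a ha => ?_
    rw [F.patR_orb hm (Or.inl rfl), (h4 a ha).1, ← hp a (by omega), F.mem_X1]
    refine and_congr_left fun _ => ⟨fun ⟨b, hb, e⟩ => hi (by omega) ha e ▸ hb, fun e => ⟨a, e, rfl⟩⟩
  · refine key (ob := oB) h2 fun a ha => ?_
    rw [F.patR_orb hm (Or.inr rfl), (h4 a ha).2.1, ← hp a (by omega), F.mem_X2]
    refine and_congr_left fun _ => ⟨fun ⟨b, hb, hb', e⟩ => hi hb ha e ▸ hb', fun e => ⟨a, ha, e, rfl⟩⟩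
  · refine key (ob := oT) h3 fun a ha => ?_
    rw [(h4 a ha).2.2, ← hp a (by omega)]
    refine ⟨fun hx => ⟨?_, F.patR_D hx⟩, fun e => F.conjT (by omega) e.1 e.2⟩
    obtain ⟨b, hb, e⟩ := F.orbT_lt hx
    exact hi (by omega) ha e ▸ hb

/-- `t z` is a conjugate of `t` -/
theorem Fr.patR_tz (F : Fr G md) (hm : md = 1 ∨ md = 2) : F.D (F.j 3) := by
  have hs := patR_sz hm
  obtain ⟨n, hn, h1⟩ := F.exists_nT (by omega)
  have hmem : ∀ a < 64, F.j a ∈ img (lvT md) F.j := fun a ha => subset_closure ⟨a, hs ▸ ha, rfl⟩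
  obtain ⟨a, ha, e⟩ := F.rep.mem_img.1 (conj_mem_of_mem_normalizer hn (hmem 1 (by norm_num)))
  have hd : F.D (F.j a) := isConj_iff.2 ⟨n, e.symm⟩
  have hc : ∀ b < 64, mul (lvT md) a b = mul (lvT md) b a := fun b hb => by
    have hw := F.rep.wf
    refine F.rep.inj _ (hw.lt ha (hs ▸ hb)) _ (hw.lt (hs ▸ hb) ha) ?_
    rw [F.rep.map _ ha _ (hs ▸ hb), F.rep.map _ (hs ▸ hb) _ ha, e]
    obtain ⟨c, hc, e'⟩ := F.rep.mem_img.1 (conj_mem_of_mem_normalizer' hn (hmem b hb))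
    have h2 : mul (lvT md) 1 c = mul (lvT md) c 1 := by
      rw [hs] at hc
      clear e'
      revert c
      rcases hm with rfl | rfl <;> decide +kernel
    have h3 := congrArg F.j h2
    rw [F.rep.map _ (by omega) _ hc, F.rep.map _ hc _ (by omega), e'] at h3
    calc n * F.j 1 * n⁻¹ * F.j b = n * (F.j 1 * (n⁻¹ * F.j b * n)) * n⁻¹ := by group
      _ = F.j b * (n * F.j 1 * n⁻¹) := by rw [h3]; group
  have h4 : a < 4 := by
    have h5 := hc 8 (by norm_num)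
    have h6 := hc 16 (by norm_num)
    have h7 := hc 32 (by norm_num)
    rw [hs] at ha
    clear hc hd e
    revert a
    rcases hm with rfl | rfl <;> decide +kernel
  have h5 := (F.D_sq ha hd).2
  have h6 : a ≠ 1 := fun h => h1 (by rw [← e, h])
  have h7 : a ≠ 2 := fun h => F.not_D_z (by omega) (h ▸ hd)
  obtain rfl : a = 3 := by omega
  exact hd

theorem Fr.patR_t (F : Fr G md) : F.D (F.j 1) := IsConj.refl _

/-- not both `s` and `t s` are conjugates of `t` -/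
theorem Fr.patR_n12 (F : Fr G md) (hm : md = 1 ∨ md = 2) (h4 : F.D (F.j 4)) (h5 : F.D (F.j 5)) : False := by
  have hs := patR_sz hm
  refine F.not12 (by omega) fun a ha => ?_
  rw [F.patR_orb hm (Or.inl rfl), and_iff_right (F.mem_X1.2 ⟨a, ha, rfl⟩)]
  have key : (0xfafa : ℕ).testBit a = true ∧ mul (lvT md) a a = 0 ∧ (∃ b ∈ [1, 3, 4, 5], kcl md a = kcl md b) ∨
      (0xfafa : ℕ).testBit a = false ∧ (a = 0 ∨ mul (lvT md) a a = 0 ∧ kcl md a = kcl md 2) := by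
    clear h4 h5
    revert a
    rcases hm with rfl | rfl <;> decide +kernel
  rcases key with ⟨h1, h2, b, hb, e⟩ | ⟨h1, h2⟩
  · refine iff_of_true ?_ h1
    have hb' : b < 64 ∧ F.D (F.j b) := by
      simp only [List.mem_cons, List.not_mem_nil, or_false] at hb
      rcases hb with rfl | rfl | rfl | rfl
      exacts [⟨by norm_num, F.patR_t⟩, ⟨by norm_num, F.patR_tz hm⟩, ⟨by norm_num, h4⟩, ⟨by norm_num, h5⟩]
    exact IsConj.trans hb'.2 (F.conj_of_kcl (by omega) (by omega) (by omega) h2 e).symm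
  · refine iff_of_false (fun hd => ?_) (by simp [h1])
    rcases h2 with rfl | ⟨h2, e⟩
    · exact (F.D_sq (by omega) hd).2 rfl
    · exact F.not_D_z (by omega) (IsConj.trans hd (F.conj_of_kcl (by omega) (by omega) (by omega) h2 e))

theorem Fr.patR1 (F : Fr G 1) (h4 : ¬ F.D (F.j 4)) : ∃ c ∈ cfgs, ∃ F' : Cf G c, F'.K = F.K ∧ F'.j = F.j := by
  have h1 := F.patR_t
  have h2 := F.not_D_z (by norm_num)
  have h3 := F.patR_tz (Or.inl rfl)
  by_cases h5 : F.D (F.j 5)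
  · refine ⟨cP4r 1 0, by simp [cfgs], F.patR_cf (Or.inl rfl)
      (F.patR_of (by norm_num) (L := [1, 2, 3, 4, 5]) (by decide +kernel) ?_) (by decide +kernel)⟩
    simp only [List.forall_mem_cons, List.not_mem_nil, false_imp_iff, implies_true, h1, h2, h3, h4, h5]
    decide +kernel
  · refine ⟨cM2r 1 0, by simp [cfgs], F.patR_cf (Or.inl rfl)
      (F.patR_of (by norm_num) (L := [1, 2, 3, 4, 5]) (by decide +kernel) ?_) (by decide +kernel)⟩
    simp only [List.forall_mem_cons, List.not_mem_nil, false_imp_iff, implies_true, h1, h2, h3, h4, h5]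
    decide +kernel

theorem Fr.pat (F : Fr G 1) : ∃ c ∈ cfgs, ∃ F' : Cf G c, F'.K = F.K ∧ F'.j 1 = F.j 1 ∧
    (F'.j 5 = F.j 5 ∨ F'.j 5 = F.j 4) := by
  by_cases h4 : F.D (F.j 4)
  · obtain ⟨F', hK, h1, -, h5, h6⟩ := F.twist
    obtain ⟨c, hc, F'', e1, e2⟩ := F'.patR1 fun hd => by
      unfold Fr.D at hd
      rw [h1, h5] at hd
      exact F.patR_n12 (Or.inl rfl) h4 hd
    exact ⟨c, hc, F'', e1.trans hK, e2 ▸ h1, .inr (e2 ▸ h6)⟩
  · obtain ⟨c, hc, F', e1, e2⟩ := F.patR1 h4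
    exact ⟨c, hc, F', e1, by rw [e2], .inl (by rw [e2])⟩

end CfsgLib.L3E
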